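import Mathlib
import Cfsg.Prelude.Def_KGroupFacts

/-!
# A group with a simple subgroup of index two whose outer automorphism group has order two
is complete, when the centralizer of the subgroup is trivial
-/

set_option autoImplicit false

namespace Cfsg.Agent.Lib.TC.D.HNOut.Complete

open Cfsg

/-- Every automorphism is inner. -/
theorem complete_of {X : Type*} [Group X] [Finite X] (H : Subgroup X) (hidx : H.index = 2)
    (hs : IsSimpleGroup H) (hc2 : 2 < Nat.card H)
    (hcent : ∀ c : X, (∀ h ∈ H, c * h = h * c) → c = 1)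
    (hout : Nat.card (Cfsg.Out H) = 2) (β : MulAut X) : ∃ s : X, ∀ u, β u = s * u * s⁻¹ := by
  classical
  have hN : H.Normal := Subgroup.normal_of_index_eq_two hidx
  have hfinH : Finite H := inferInstance
  have hfinA : Finite (MulAut H) :=
    Finite.of_injective (fun f : MulAut H => (f : H → H)) (fun a b hab => MulEquiv.ext (congrFun hab))
  let κ : X →* MulAut H := MulAut.conjNormal
  have hκv : ∀ (g : X) (h : H), ((κ g h : H) : X) = g * h * g⁻¹ := fun g h => MulAut.conjNormal_apply g h
  have hκinj : Function.Injective κ := by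
    rw [injective_iff_map_eq_one]
    intro c hc
    apply hcent
    intro h hh
    have h1 := hκv c ⟨h, hh⟩
    rw [hc] at h1
    have h2 : ((1 : MulAut H) ⟨h, hh⟩ : H) = ⟨h, hh⟩ := rfl
    rw [h2] at h1
    have h3 : h = c * h * c⁻¹ := h1
    calc c * h = c * h * c⁻¹ * c := by group
      _ = h * c := by rw [← h3]
  -- the order of the automorphism group
  have hconjinj : Function.Injective (MulAut.conj : H →* MulAut H) := by
    rw [injective_iff_map_eq_one]
    intro c hc
    apply Subtype.ext
    apply hcent c.1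
    intro h hh
    have h1 : MulAut.conj c ⟨h, hh⟩ = ⟨h, hh⟩ := by rw [hc]; rfl
    rw [MulAut.conj_apply] at h1
    have h3 : (c : X) * h * (c : X)⁻¹ = h := congrArg Subtype.val h1
    calc (c : X) * h = (c : X) * h * (c : X)⁻¹ * c := by group
      _ = h * c := by rw [h3]
  have hcI : Nat.card (Cfsg.Inn H) = Nat.card H :=
    (Nat.card_congr (MonoidHom.ofInjective hconjinj).toEquiv).symm
  have hcA : Nat.card (MulAut H) = Nat.card X := by
    have h1 := Subgroup.card_eq_card_quotient_mul_card_subgroup (Cfsg.Inn H)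
    have h2 := Subgroup.index_mul_card H
    rw [hidx] at h2
    rw [h1, hcI, ← h2]
    congr 1
  have hκbij : Function.Bijective κ := (Nat.bijective_iff_injective_and_card κ).2 ⟨hκinj, hcA.symm⟩
  -- the image of the subgroup
  have hH' : H.map β.toMonoidHom = H := by
    let H' : Subgroup X := H.map β.toMonoidHom
    have hidx' : H'.index = 2 := by
      have h1 : H'.index = H.index := by
        show (H.map β.toMonoidHom).index = H.index
        exact Subgroup.index_map_of_bijective β.bijective H
      rw [h1, hidx]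
    have hN' : H'.Normal := Subgroup.normal_of_index_eq_two hidx'
    have hn : (H'.subgroupOf H).Normal := Subgroup.Normal.subgroupOf hN' H
    have hle : H ≤ H' := by
      rcases hs.eq_bot_or_eq_top_of_normal (H'.subgroupOf H) hn with h | h
      · exfalso
        have h1 : (H'.subgroupOf H).index ∣ H'.index := by
          have := Subgroup.relIndex_dvd_index_of_normal H' H
          rwa [Subgroup.relIndex] at this
        have h2 : (H'.subgroupOf H).index = Nat.card H := by
          rw [h, Subgroup.index_bot]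
        rw [h2, hidx'] at h1
        have h3 := Nat.le_of_dvd (by norm_num) h1
        omega
      · intro x hx
        have h1 : (⟨x, hx⟩ : H) ∈ H'.subgroupOf H := by
          rw [h]
          exact Subgroup.mem_top _
        exact Subgroup.mem_subgroupOf.1 h1
    have hcard : Nat.card H' = Nat.card H := Nat.card_congr (β.subgroupMap H).toEquiv.symm
    exact (Subgroup.eq_of_le_of_card_ge hle (by rw [hcard])).symm
  -- the restriction
  let γ : MulAut H := (β.subgroupMap H).trans (MulEquiv.subgroupCongr hH')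
  have hγ : ∀ h : H, ((γ h : H) : X) = β h := fun h => rfl
  obtain ⟨s, hs'⟩ := hκbij.2 γ
  refine ⟨s, fun u => ?_⟩
  have hon : ∀ h ∈ H, β h = s * h * s⁻¹ := by
    intro h hh
    have h1 := hκv s ⟨h, hh⟩
    rw [hs', hγ] at h1
    exact h1
  have hd : (s * u * s⁻¹)⁻¹ * β u = 1 := by
    apply hcent
    intro h hh
    -- write `h` as a conjugate
    let k : X := s⁻¹ * h * s
    have hk : k ∈ H := by
      have := hN.conj_mem h hh s⁻¹
      simpa [k] using this
    have huk : u * k * u⁻¹ ∈ H := hN.conj_mem k hk u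
    have h1 : β (u * k * u⁻¹) = s * (u * k * u⁻¹) * s⁻¹ := hon _ huk
    have h2 : β k = h := by
      rw [hon k hk]
      simp [k, mul_assoc]
    rw [map_mul, map_mul, map_inv, h2] at h1
    have h3 : β u * h = s * u * k * u⁻¹ * s⁻¹ * β u := by
      have h4 : β u * h = (β u * h * (β u)⁻¹) * β u := by group
      rw [h4, h1]
      group
    have h5 : s * u * k * u⁻¹ * s⁻¹ = (s * u * s⁻¹) * h * (s * u * s⁻¹)⁻¹ := by
      simp only [k]
      group
    rw [h5] at h3
    calc (s * u * s⁻¹)⁻¹ * β u * h = (s * u * s⁻¹)⁻¹ * (β u * h) := by group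
      _ = (s * u * s⁻¹)⁻¹ * ((s * u * s⁻¹) * h * (s * u * s⁻¹)⁻¹ * β u) := by rw [h3]
      _ = h * ((s * u * s⁻¹)⁻¹ * β u) := by group
  have h7 : β u = (s * u * s⁻¹) * ((s * u * s⁻¹)⁻¹ * β u) := by group
  rw [h7, hd, mul_one]

end Cfsg.Agent.Lib.TC.D.HNOut.Complete

namespace Cfsg.Agent.Lib.TC.D.HNOut.Complete

/-- An element of order eleven has no fixed points outside the base point, by counting. -/
theorem no_fix_abs {Γ : Type*} [Group Γ] {n : Nat} [NeZero n] (φ : Γ →* Equiv.Perm (Fin n)) (KK : Subgroup Γ)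
    (hfix0 : ∀ k ∈ KK, φ k 0 = 0) (lab : Fin n → Nat)
    (hconn : ∀ i j, lab i = lab j → ∃ g ∈ KK, φ g i = j) (hlb : ∀ i, lab i < 9)
    (size : Nat → Nat) (hsize' : ∀ ℓ, ℓ < 9 → {i | lab i = ℓ}.ncard = size ℓ)
    (hlab0 : ∀ i, lab i = 0 → i = 0)
    (h11 : ∀ l, 1 ≤ l → l < 9 → 11 ∣ size l)
    (hcK : Nat.card KK = 177408000)
    (g : Γ) (hg : g ∈ KK) (hgo : orderOf g = 11) (p : Fin n) (hp : p ≠ 0) : φ g p ≠ p := by
  classical
  intro hfix
  let act : KK →* Equiv.Perm (Fin n) := φ.comp KK.subtype
  letI : MulAction KK (Fin n) := MulAction.compHom (Fin n) act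
  have hsm : ∀ (k : KK) (i : Fin n), k • i = φ k.1 i := fun _ _ => rfl
  have hfK : Finite KK := Nat.finite_of_card_ne_zero (by rw [hcK]; norm_num)
  let O : Set (Fin n) := MulAction.orbit KK p
  have h1 : (MulAction.stabilizer KK p).index = O.ncard := MulAction.index_stabilizer KK p
  have h2 := Subgroup.index_mul_card (MulAction.stabilizer KK p)
  have h3 : 11 ∣ Nat.card (MulAction.stabilizer KK p) := by
    have hm : (⟨g, hg⟩ : KK) ∈ MulAction.stabilizer KK p := hfix
    have h4 : orderOf (⟨⟨g, hg⟩, hm⟩ : MulAction.stabilizer KK p) = 11 := by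
      rw [Subgroup.orderOf_mk, Subgroup.orderOf_mk]
      exact hgo
    rw [← h4]
    exact orderOf_dvd_natCard _
  have hinvB : ∀ i j : Fin n, i ∈ O → lab i = lab j → j ∈ O := by
    intro i j hi hl
    obtain ⟨h, hh, e1⟩ := hconn i j hl
    obtain ⟨k, hk⟩ := hi
    refine ⟨⟨h, hh⟩ * k, ?_⟩
    have hk' : k • p = i := hk
    show (⟨h, hh⟩ * k : KK) • p = j
    rw [mul_smul, hk', hsm]
    exact e1
  have hne0 : ∀ i ∈ O, lab i ≠ 0 := by
    intro i hi h0
    have h4 := hlab0 i h0
    obtain ⟨k, hk⟩ := hi
    have hk' : k • p = i := hk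
    apply hp
    have h5 : k⁻¹ • i = p := by
      rw [← hk', inv_smul_smul]
    rw [← h5, h4, hsm]
    exact hfix0 _ k⁻¹.2
  have h4 : 11 ∣ O.ncard := by
    let Bf : Finset (Fin n) := Finset.univ.filter (· ∈ O)
    have hBf : (Bf : Set (Fin n)) = O := by
      ext i
      simp [Bf]
    let S : Finset Nat := Bf.image lab
    have hcard : O.ncard = ∑ ℓ ∈ S, size ℓ := by
      rw [← hBf, Set.ncard_coe_finset,
        Finset.card_eq_sum_card_fiberwise (f := lab) (t := S) (fun i hi => Finset.mem_image_of_mem _ hi)]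
      refine Finset.sum_congr rfl fun ℓ hℓ => ?_
      obtain ⟨i₀, hi₀, rfl⟩ := Finset.mem_image.1 hℓ
      rw [← hsize' _ (hlb i₀)]
      have : ((Bf.filter fun i => lab i = lab i₀ : Finset (Fin n)) : Set (Fin n)) = {i | lab i = lab i₀} := by
        ext i
        simp only [Finset.coe_filter, Set.mem_setOf_eq, Finset.mem_coe]
        constructor
        · exact fun h => h.2
        · intro h
          refine ⟨?_, h⟩
          have h3 : i₀ ∈ O := by
            rw [← hBf]
            exact hi₀
          simp only [Bf, Finset.mem_filter, Finset.mem_univ, true_and]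
          exact hinvB i₀ i h3 h.symm
      rw [← this, Set.ncard_coe_finset]
    rw [hcard]
    apply Finset.dvd_sum
    intro ℓ hℓ
    obtain ⟨i, hi, rfl⟩ := Finset.mem_image.1 hℓ
    have hiO : i ∈ O := by
      rw [← hBf]
      exact hi
    exact h11 _ (Nat.pos_of_ne_zero (hne0 i hiO)) (hlb i)
  rw [h1, hcK] at h2
  have h5 : 11 * 11 ∣ 177408000 := by
    rw [← h2]
    exact Nat.mul_dvd_mul h4 h3
  norm_num at h5

end Cfsg.Agent.Lib.TC.D.HNOut.Complete
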