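import Cfsg.Agent.Lib.TC.D.HNB.Data

/-!
# Two lemmas on the action on 100 points
-/

set_option autoImplicit false
set_option maxRecDepth 100000

namespace Cfsg.Agent.Lib.TC.D.HNOut.Zed

open Cfsg.Agent.Lib.TC.Perm Cfsg.Agent.Lib.TC.D.HNB.Data Cfsg.Agent.Lib.HS.Graph

/-- The value of a word. -/
abbrev F (w : List Nat) (i : Nat) : Nat := P100.val w i

theorem F_append (u v : List Nat) (i : Nat) : F (u ++ v) i = F v (F u i) := by
  simp [F, PT.val, List.foldl_append]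

/-- Some squares in the subgroup generated by `y` and its conjugate. -/
def gensZ : List (List Nat) := [[2,2],[0,2,1,0,2,1],[2,0,2,1,2,0,2,1],[2,2,0,2,1,2,2,0,2,1],[2,0,2,1,0,2,1,2,0,2,1,0,2,1]]

/-- Products of these squares. -/
def expZ : List Nat → List Nat
  | [] => []
  | a :: l => gensZ.getD a [] ++ expZ l

def trZ : List (Nat × List Nat) := [(11,[2,1,3]),(2,[3,0]),(2,[]),(2,[0,4,2]),(11,[1,4,1]),(2,[0,1]),(2,[3,1,4]),(2,[2,3,0]),(11,[2,0,0]),(11,[1,4,1,2]),(11,[2]),(11,[]),(2,[1,1,2,1]),(2,[0,1,0]),(11,[1,1]),(11,[2,0]),(2,[3,2]),(2,[3]),(2,[0,3,3]),(2,[0,4]),(2,[2,3]),(2,[0]),(2,[2]),(11,[1,0,2,0]),(2,[0,4,4]),(11,[2,4,3]),(2,[0,1,3]),(2,[2,4]),(2,[1,2,3]),(2,[0,3]),(11,[2,0,0,4]),(2,[2,1]),(2,[1,4,3,2]),(2,[0,3,2]),(11,[1,4]),(2,[2,1,1]),(2,[2,1,0]),(2,[3,2,4]),(11,[1,4,0]),(2,[0,1,1]),(2,[1,1,2]),(11,[2,4,1]),(2,[2,4,0]),(11,[2,4,0]),(2,[0,3,1,3]),(2,[0,3,1]),(2,[1,4]),(11,[1,0]),(11,[2,1,4,2]),(11,[1,0,3,4]),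(11,[2,4,2]),(2,[3,4]),(2,[0,3,1,1]),(11,[2,4]),(2,[1,1]),(11,[1,2]),(11,[1,4,0,2]),(2,[1,0,3]),(11,[2,0,1,3]),(11,[1,1,4]),(2,[1,2,4]),(11,[1,2,0,4]),(11,[2,0,1,4]),(2,[2,1,1,3]),(2,[2,4,4]),(11,[2,3,0]),(2,[0,3,4]),(11,[1,2,0,2]),(2,[0,1,1,0]),(11,[1,0,4,2]),(11,[1,4,1,3]),(11,[1,1,3]),(11,[1,0,3,4,3]),(11,[1,2,0]),(2,[1]),(11,[1,3]),(2,[1,2]),(11,[1,2,0,0,4]),(11,[2,1,0]),(2,[1,2,0]),(2,[2,1,3]),(11,[2,3]),(2,[3,1]),(11,[1,0,2,0,1]),(11,[1,0,2]),(2,[3,4,1]),(11,[1]),(11,[2,0,1,0]),(11,[1,1,3,1]),(11,[2,1]),(2,[1,4,3]),(11,[2,1,4]),(11,[1,0,3,0]),(2,[1,0]),(11,[1,2,0,0]),(2,[2,3,3]),(11,[1,0,4]),(11,[2,0,1]),(11,[1,0,3]),(11,[1,0,4,3])]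

def wZ : List Nat := [4,0]

def vZ : List Nat := [1,0,4,4,1]

theorem hglen : gensZ.length = 5 := rfl

theorem hgmem : ∀ a, a < 5 → gensZ.getD a [] ∈ gensZ := by decide +kernel

theorem hglt : ∀ g ∈ gensZ, ∀ i, i < 100 → F g i < 100 := by decide +kernel

theorem hfixW : ∀ x, x < 100 → F (expZ wZ) x = x → x = 2 ∨ x = 11 := by decide +kernel

theorem hfixW2 : F (expZ wZ) 2 = 2 ∧ F (expZ wZ) 11 = 11 := by decide +kernel

theorem hfixV : F (expZ vZ) 2 = 2 ∧ F (expZ vZ) 11 ≠ 11 := by decide +kernel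

theorem hWlt : (∀ a ∈ wZ, a < 5) ∧ (∀ a ∈ vZ, a < 5) := by decide +kernel

theorem htrZ : ∀ q, q < 100 → ((trZ.getD q (0, [])).1 = 2 ∨ (trZ.getD q (0, [])).1 = 11) ∧
    (∀ a ∈ (trZ.getD q (0, [])).2, a < 5) ∧ F (expZ (trZ.getD q (0, [])).2) (trZ.getD q (0, [])).1 = q := by
  decide +kernel

section Z

variable (s : Nat → Nat) (hlt : ∀ i, i < 100 → s i < 100)
  (hlet : ∀ g ∈ gensZ, ∀ i, i < 100 → s (F g i) = F g (s i))
  (hinj : ∀ i j, i < 100 → j < 100 → s i = s j → i = j)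

include hlet in
theorem comm_word (l : List Nat) (hl : ∀ a ∈ l, a < 5) :
    ∀ i, i < 100 → F (expZ l) i < 100 ∧ s (F (expZ l) i) = F (expZ l) (s i) := by
  induction l with
  | nil => intro i hi; exact ⟨hi, rfl⟩
  | cons a l ih =>
    intro i hi
    have hm := hgmem a (hl a (by simp))
    have hl' := ih (fun b hb => hl b (by simp [hb]))
    have h1 := hglt _ hm i hi
    have h2 := hlet _ hm i hi
    obtain ⟨h3, h4⟩ := hl' _ h1
    rw [expZ, F_append, F_append]
    refine ⟨h3, ?_⟩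
    rw [h4, h2]

include hlt hlet hinj in
/-- A permutation commuting with the squares is trivial. -/
theorem lemmaZ : ∀ i, i < 100 → s i = i := by
  have hcw := comm_word s hlet
  have ha1 : s 2 = 2 ∨ s 2 = 11 := by
    apply hfixW _ (hlt _ (by norm_num))
    have h := (hcw wZ hWlt.1 2 (by norm_num)).2
    rw [hfixW2.1] at h
    exact h.symm
  have hb1 : s 11 = 2 ∨ s 11 = 11 := by
    apply hfixW _ (hlt _ (by norm_num))
    have h := (hcw wZ hWlt.1 11 (by norm_num)).2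
    rw [hfixW2.2] at h
    exact h.symm
  have ha2 : s 2 = 2 := by
    rcases ha1 with h | h
    · exact h
    · exfalso
      have h1 := (hcw vZ hWlt.2 2 (by norm_num)).2
      rw [hfixV.1, h] at h1
      exact hfixV.2 h1.symm
  have hb2 : s 11 = 11 := by
    rcases hb1 with h | h
    · exfalso
      have := hinj 2 11 (by norm_num) (by norm_num) (by rw [ha2, h])
      omega
    · exact h
  intro q hq
  obtain ⟨h1, h2, h3⟩ := htrZ q hq
  have hxlt : (trZ.getD q (0, [])).1 < 100 := by rcases h1 with h | h <;> omega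
  have h4 := (hcw _ h2 _ hxlt).2
  rw [h3] at h4
  rcases h1 with h | h
  · rw [h, ha2, ← h, h3] at h4
    exact h4
  · rw [h, hb2, ← h, h3] at h4
    exact h4

end Z

/-- The word of order 11 in the letters. -/
def gw : List Nat := [0,2,2,2,4,2,4,0,2,2,2,4,2,4]

def c1 : List Nat := [12,83,40,67,36,87,95,79,68,80,23]

def c2 : List Nat := [13,97,37,19,70,15,20,16,32,24,63]

def R1 : List Nat := [0,1,2,3,4,5,6,7,8,9,10,11,14,17,18,21,22,25,26,27,28,29,30,31,33,34,35,38,39,41,42,43,44,45,46,47,48,49,50,51,52,53,54,55,56,57,58,59,60,62,64,65,66,69,71,72,73,74,75,76,77,78,81,82,84,85,86,88,89,90,91,92,93,94,96,98,99]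

def R2 : List Nat := [13,15,16,19,20,24,32,37,63,70,97]

def RR : List Nat := [2,6,7,8,10]

/-- The check of a vertex by its neighbours in a set. -/
def sep (S : List Nat) (v : Nat) : Bool :=
  (List.range 100).all fun w => Nat.beq w v || S.any fun r => bne (adjB v r) (adjB w r)

theorem hfixg : ∀ x, x < 100 → F gw x = x → x = 61 := by decide +kernel

theorem hfixg2 : F gw 61 = 61 := by decide +kernel

theorem hNa : ∀ y, y < 100 → adjB 61 y = true →
    (∃ j, j ∈ List.range 11 ∧ c1.getD j 0 = y) ∨ (∃ j, j ∈ List.range 11 ∧ c2.getD j 0 = y) := by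
  decide +kernel

theorem hb0 : adjB 61 (c1.getD 0 0) = true := by decide +kernel

theorem hcyc1 : ∀ i, i < 11 → F gw (c1.getD i 0) = c1.getD ((i + 1) % 11) 0 := by decide +kernel

theorem hcyc2 : ∀ i, i < 11 → F gw (c2.getD i 0) = c2.getD ((i + 1) % 11) 0 := by decide +kernel

theorem hc1lt : ∀ i, i < 11 → c1.getD i 0 < 100 := by decide +kernel

theorem hc2lt : ∀ i, i < 11 → c2.getD i 0 < 100 := by decide +kernel

theorem hv : ∀ i ∈ RR, i < 11 ∧ adjB 4 (c1.getD i 0) = true := by decide +kernel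

theorem href : ∀ j, j < 11 → ∀ w, w < 100 → w ≠ 61 → ∃ i, i ∈ RR ∧ adjB w (c2.getD ((j + i) % 11) 0) = false := by
  decide +kernel

theorem hdbl : ∀ j, j < 11 → c1.getD ((j + j) % 11) 0 = c1.getD 0 0 → j = 0 := by decide +kernel

theorem hsep1 : ∀ v ∈ R1, sep (61 :: c1) v = true := by decide +kernel

theorem hsep2 : ∀ v ∈ R2, sep (61 :: c1 ++ R1) v = true := by decide +kernel

theorem hcover : ∀ q, q < 100 → q ∈ 61 :: c1 ++ R1 ++ R2 := by decide +kernel

theorem hR1lt : ∀ v ∈ 61 :: c1 ++ R1 ++ R2, v < 100 := by decide +kernel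

theorem hc1mem : ∀ r ∈ c1, ∃ i, i ∈ List.range 11 ∧ c1.getD i 0 = r := by decide +kernel

section O

variable (s : Nat → Nat) (hlt : ∀ i, i < 100 → s i < 100)
  (hadj : ∀ u v, u < 100 → v < 100 → adjB (s u) (s v) = adjB u v)
  (hc : ∀ i, i < 100 → s (F gw i) = F gw (s i))
  (hinj : ∀ i j, i < 100 → j < 100 → s i = s j → i = j)
  (h2 : ∀ i, i < 100 → s (s i) = i)

include hadj in
theorem sep_fix (S : List Nat) (v : Nat) (hvlt : v < 100) (hSlt : ∀ r ∈ S, r < 100)
    (hslt : s v < 100)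
    (hS : ∀ r ∈ S, s r = r) (hsp : sep S v = true) : s v = v := by
  by_contra hne
  have h1 := List.all_eq_true.1 hsp (s v) (List.mem_range.2 hslt)
  rw [Bool.or_eq_true] at h1
  rcases h1 with h1 | h1
  · exact hne (Nat.eq_of_beq_eq_true h1)
  · obtain ⟨r, hr, h3⟩ := List.any_eq_true.1 h1
    have h4 := hadj v r hvlt (hSlt r hr)
    rw [hS r hr] at h4
    rw [h4] at h3
    simp at h3

include hlt hadj hc hinj h2 in
/-- An involution commuting with the word, preserving the graph, is trivial. -/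
theorem claim1b : ∀ i, i < 100 → s i = i := by
  have ha : s 61 = 61 := by
    apply hfixg _ (hlt _ (by norm_num))
    have h := hc 61 (by norm_num)
    rw [hfixg2] at h
    exact h.symm
  have hb := hadj 61 (c1.getD 0 0) (by norm_num) (hc1lt 0 (by norm_num))
  rw [ha, hb0] at hb
  have key : ∀ (cx : List Nat) (hcx : ∀ i, i < 11 → F gw (cx.getD i 0) = cx.getD ((i + 1) % 11) 0)
      (j : Nat), s (c1.getD 0 0) = cx.getD j 0 → j < 11 →
      ∀ i, i < 11 → s (c1.getD i 0) = cx.getD ((j + i) % 11) 0 := by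
    intro cx hcx j hj hj11 i
    induction i with
    | zero =>
      intro _
      rw [hj, Nat.add_zero, Nat.mod_eq_of_lt hj11]
    | succ i ih =>
      intro hi
      have h3 := ih (by omega)
      have h4 := hcyc1 i (by omega)
      rw [Nat.mod_eq_of_lt (by omega : i + 1 < 11)] at h4
      rw [← h4, hc _ (hc1lt i (by omega)), h3, hcx _ (Nat.mod_lt _ (by norm_num))]
      congr 1
      omega
  have hfixc : ∀ i, i < 11 → s (c1.getD i 0) = c1.getD i 0 := by
    rcases hNa _ (hlt _ (hc1lt 0 (by norm_num))) hb with ⟨j, hj, hy⟩ | ⟨j, hj, hy⟩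
    · have hj11 := List.mem_range.1 hj
      have h3 := key c1 hcyc1 j hy.symm hj11
      have h4 : c1.getD ((j + j) % 11) 0 = c1.getD 0 0 := by
        have h5 := h3 j hj11
        have h6 := h2 _ (hc1lt 0 (by norm_num))
        rw [← hy] at h6
        rw [← h5]
        exact h6
      have hj0 := hdbl j hj11 h4
      subst hj0
      intro i hi
      rw [h3 i hi, Nat.zero_add, Nat.mod_eq_of_lt hi]
    · exfalso
      have hj11 := List.mem_range.1 hj
      have h3 := key c2 hcyc2 j hy.symm hj11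
      have hw : s 4 ≠ 61 := by
        intro h4
        have := hinj 4 61 (by norm_num) (by norm_num) (by rw [h4, ha])
        omega
      obtain ⟨i, hi, h5⟩ := href j hj11 _ (hlt _ (by norm_num)) hw
      obtain ⟨h6, h7⟩ := hv i hi
      have h8 := hadj 4 _ (by norm_num) (hc1lt i h6)
      rw [h7, h3 i h6, h5] at h8
      exact absurd h8 (by simp)
  have hc1f : ∀ r ∈ c1, s r = r := by
    intro r hr
    obtain ⟨i, hi, rfl⟩ := hc1mem r hr
    exact hfixc i (List.mem_range.1 hi)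
  have hS0 : ∀ r ∈ 61 :: c1, s r = r := by
    intro r hr
    rcases List.mem_cons.1 hr with rfl | hr
    · exact ha
    · exact hc1f r hr
  have hlt0 : ∀ v ∈ 61 :: c1 ++ R1 ++ R2, v < 100 := hR1lt
  have hS0lt : ∀ r ∈ 61 :: c1, r < 100 := fun r hr => hlt0 r (by
    simp only [List.cons_append, List.mem_cons, List.mem_append] at hr ⊢
    rcases hr with h | h
    · exact Or.inl h
    · exact Or.inr (Or.inl (Or.inl h)))
  have hR1f : ∀ v ∈ R1, s v = v := by
    intro v hv'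
    have hvl : v < 100 := hlt0 v (by
      simp only [List.cons_append, List.mem_cons, List.mem_append]
      exact Or.inr (Or.inl (Or.inr hv')))
    exact sep_fix s hadj _ v hvl hS0lt (hlt v hvl) hS0 (hsep1 v hv')
  have hS1 : ∀ r ∈ 61 :: c1 ++ R1, s r = r := by
    intro r hr
    rcases List.mem_append.1 hr with h | h
    · exact hS0 r h
    · exact hR1f r h
  have hS1lt : ∀ r ∈ 61 :: c1 ++ R1, r < 100 := fun r hr => hlt0 r (List.mem_append.2 (Or.inl hr))
  intro q hq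
  rcases List.mem_append.1 (hcover q hq) with h | h
  · exact hS1 q h
  · exact sep_fix s hadj _ q hq hS1lt (hlt q hq) hS1 (hsep2 q h)

end O

end Cfsg.Agent.Lib.TC.D.HNOut.Zed
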