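import Cfsg.Agent.Lib.Schur.HN.Model
import Cfsg.Agent.Lib.TC.D.HNOut.Zed
import Cfsg.Agent.Lib.TC.D.HNO.OrbD

/-!
# Word checks for the automorphisms of the Harada-Norton group
-/

set_option autoImplicit false
set_option maxRecDepth 100000

namespace Cfsg.Agent.Lib.TC.D.HNOut.Facts

open Cfsg.Agent.Lib.TC.Core Cfsg.Agent.Lib.TC.Pres Cfsg.Agent.Lib.TC.Perm Cfsg.Agent.Lib.TC.Iso
  Cfsg.Agent.Lib.TC.G.HN Cfsg.Agent.Lib.TC.D.HNO.Tab Cfsg.Agent.Lib.TC.D.HNC.Ord
  Cfsg.Agent.Lib.TC.D.HNO.OrbD
open Cfsg.Agent.Lib.Schur.PcBase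
open Cfsg.Agent.Lib.PermComp.Core (ifB ifB_eq_true allL allL_eq_true)
open Cfsg.Agent.Lib.TC.D.HNOut.Zed

/-- The base. -/
abbrev bs : List Nat := allBase [0] Cfsg.Agent.Lib.TC.D.HNL.C0.cl.levs

/-- The check of an equation. -/
noncomputable def chkW (u v : List Nat) : Bool :=
  ifB (allL (fun z => Nat.blt z 7) u) (ifB (allL (fun z => Nat.blt z 7) v) (eqB pt bs u v))

/-- The check of an identity. -/
noncomputable def chkId (w : List Nat) : Bool := allL (fun b => Nat.beq (pt.val w b) b) bs

theorem eqW {u v : List Nat} (h : chkW u v = true) : prodA e u = prodA e v := by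
  obtain ⟨φ, M⟩ := Cfsg.Agent.Lib.Schur.HN.Model.model
  rw [chkW, ifB_eq_true, ifB_eq_true] at h
  have h1 := (allL_eq_true _ _).1 h.1
  have h2 := (allL_eq_true _ _).1 h.2.1
  exact M.eq_of_base (fun z hz => Nat.le_of_ble_eq_true (h1 z hz)) (fun z hz => Nat.le_of_ble_eq_true (h2 z hz))
    (eqB_spec h.2.2)

/-- The images of the letters under the automorphisms. -/
def sub (a b c : Bool) (k l : Nat) : List Nat :=
  [if a then [0,0,0] else [0], if a then [1,1,1] else [1], if b then [0,0,2] else [2],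
   if b then [3,1,1] else [3], if c then [0,0,4] else [4], List.replicate k 5, List.replicate k 6].getD l []

/-- The expansion of a word. -/
def expd (f : Nat → List Nat) : List Nat → List Nat
  | [] => []
  | z :: l => f z ++ expd f l

theorem prodA_expd {Γ : Type*} [Group Γ] (E : Nat → Γ) (f : Nat → List Nat) (w : List Nat) :
    prodA (fun l => prodA E (f l)) w = prodA E (expd f w) := by
  induction w with
  | nil => rfl
  | cons z l ih => rw [prodA_cons, ih, expd, prodA_append]

def R3 : List Nat := [2,2,2,0,2,2,1,2,2,2,0,2,2,1,2,2,2,0,2,2,1]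

def R9 : List Nat := [0,2,0,2,0,2,2,2,4,3,3,3,1,3,1,3,0,2,0,2,0,2,2,2,4,3,3,3,1,3,1,3,0,2,0,2,0,2,2,2,4,3,3,3,1,3,1,3,4]

def Rt : List Nat := [5,4,5,4,5,4]

theorem hR3 : chkW R3 [] = true := by decide +kernel

theorem hR9 : chkW R9 [] = true := by decide +kernel

theorem hRt : chkW Rt [] = true := by decide +kernel

theorem hRab : ∀ a b c : Bool, chkId (expd (sub a b c 1) R3) = true → chkId (expd (sub a b c 1) R9) = true →
    a = false ∧ b = false := by decide +kernel

theorem hck : ∀ c : Bool, ∀ k, 1 ≤ k → k < 5 → chkId (expd (sub false false c k) Rt) = true →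
    (c = false ∧ (k = 1 ∨ k = 4)) ∨ (c = true ∧ (k = 2 ∨ k = 3)) := by decide +kernel

theorem hinvchk : ∀ a b c : Bool, ∀ k, k < 5 → ∀ l ∈ [0,2,4,5],
    chkW (sub a b c k l ++ sub a b c k (invF l)) [] = true := by decide +kernel

theorem hinvT : ∀ l, l < 7 → chkW (sub false false true 2 l ++ sub false false true 2 (invF l)) [] = true := by decide +kernel

theorem hzc : ∀ l, l < 5 → chkW [0,0,l] [l,0,0] = true := by decide +kernel

theorem hzz : chkW [0,0,0,0] [] = true := by decide +kernel

theorem hzmove : pt.val [0,0] 1 ≠ 1 := by decide +kernel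

theorem hty : chkW [5,2] [2,5] = true := by decide +kernel

theorem hty' : chkW [5,0,2,1] [0,2,1,5] = true := by decide +kernel

theorem ht5 : chkW [5,5,5,5,5] [] = true := by decide +kernel

theorem ht0 : pt.val [5] 0 ≠ 0 := by decide +kernel

/-- The power of `t` moving the base point to a small point. -/
def kOf (p : Nat) : Nat := [0,1,4,2,3].getD p 0

theorem hkOf : ∀ p, p < 5 → pt.val (List.replicate (kOf p) 5) 0 = p ∧ kOf p < 5 := by decide +kernel

theorem hfive : ∀ k, k < 5 → chkId (List.flatten (List.replicate 5 ([0,0] ++ List.replicate k 5))) = false := by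
  decide +kernel

theorem hrelT : ∀ r ∈ rels, chkW (expd (sub false false true 2) r) [] = true := by decide +kernel

theorem htau2 : ∀ l, l < 7 → chkW (expd (sub false false true 2) (sub false false true 2 l)) [1,1,l,0,0] = true := by
  decide +kernel

theorem hc4 : ∀ l, l < 7 → chkW (sub false false false 4 l) [1,1,l,0,0] = true := by decide +kernel

theorem hc3 : ∀ l, l < 7 → chkW (sub false false true 3 l) ([1,1] ++ sub false false true 2 l ++ [0,0]) = true := by
  decide +kernel

theorem hc1 : ∀ l, l < 7 → chkW (sub false false false 1 l) [l] = true := by decide +kernel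

theorem hgp : chkW (List.flatten (List.replicate 11 gw)) [] = true := by decide +kernel

theorem hgm : pt.val gw 1 ≠ 1 := by decide +kernel

theorem hz100 : ∀ i, i < 100 → Cfsg.Agent.Lib.TC.D.HNB.Data.P100.val [0,0] i = i := by decide +kernel

/-- Words to the representatives of the labels. -/
def gl : List (List Nat) := [[],[5],[5,4,6],[5,0,4,6],[5,0,4,2,4,5],[5,4,2,6,4,5],[5,4,2,4,2,4,5],[5,4,2,6,4,2,5,4,6],[5,4,2,0,6,4,3,5,4,6]]

def wit : List Nat := [0,0,0,1,0,0,0,0,1]

theorem hrep : ∀ l, l < 9 → lab (Cfsg.Agent.Lib.TC.D.HNO.OrbD.repr l) = l ∧ pt.val (gl.getD l []) 0 = Cfsg.Agent.Lib.TC.D.HNO.OrbD.repr l ∧ (∀ z ∈ gl.getD l [], z < 7) := by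
  decide +kernel

theorem hwit : ∀ l, 1 ≤ l → l < 9 → pt.val (gl.getD l [] ++ [0,0]) (wit.getD l 0) ≠ pt.val ([0,0] ++ gl.getD l []) (wit.getD l 0) ∧
    wit.getD l 0 < 1539000 := by
  decide +kernel

theorem h11 : ∀ l, 1 ≤ l → l < 9 → 11 ∣ size l := by decide

/-- The squares, as words in `y` and its conjugate. -/
def expB : List Bool → List Nat
  | [] => []
  | a :: l => (if a then [2] else [0,2,1]) ++ expB l

def gensI : List (List Bool) := [[true,true],[false,false],[true,false,true,false],[true,true,false,true,true,false],[true,false,false,true,false,false]]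

theorem hgensI : gensZ = gensI.map expB := by decide +kernel

theorem hsqZ : ∀ g ∈ gensZ, (g.take (g.length / 2)) ++ (g.take (g.length / 2)) = g ∧ ∀ z ∈ g.take (g.length / 2), z < 5 := by
  decide +kernel

theorem hgw5 : ∀ z ∈ gw, z < 5 := by decide

theorem hgZ5 : ∀ g ∈ gensZ, ∀ z ∈ g, z < 5 := by decide

end Cfsg.Agent.Lib.TC.D.HNOut.Facts
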