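import Cfsg.Agent.Lib.TC.D.HNB.Main

/-!
# The homomorphism to the automorphism group of the graph on 100 points
-/

namespace Cfsg.Agent.Lib.TC.D.HNOut.Rho

open Cfsg.Agent.Lib.TC.Core Cfsg.Agent.Lib.TC.Enc Cfsg.Agent.Lib.TC.Pres Cfsg.Agent.Lib.TC.Perm
  Cfsg.Agent.Lib.TC.Main Cfsg.Agent.Lib.TC.Chain Cfsg.Agent.Lib.TC.Chain.PermLev
  Cfsg.Agent.Lib.TC.G.HN Cfsg.Agent.Lib.TC.HNA Cfsg.Agent.Lib.TC.D.HNO.Tab
  Cfsg.Agent.Lib.TC.D.HND.Sys Cfsg.Agent.Lib.TC.D.HNL.Lam Cfsg.Agent.Lib.TC.D.HNC.Ord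
  Cfsg.Agent.Lib.TC.D.HNB.Data Cfsg.Agent.Lib.TC.D.HNB.Main Cfsg.Agent.Lib.TC.D.HNB

open Cfsg.Agent.Lib.SteinerSearch.Core (tb)
open Cfsg.Agent.Lib.HS.Graph (adjB adj_iff autS HH_le)
open Cfsg.Agent.Lib.HS.Simple (hs_main HH)

set_option maxRecDepth 100000

/-- The homomorphism. -/
theorem rho_data (hgood : pt.Good rels) (hcard : Nat.card KK = 177408000) :
    ∃ ρ : KK →* Equiv.Perm (Fin 100), ρ.range = autS ∧ Nat.card ρ.ker = 2 ∧
      ∀ (c : Fin 5) (hm : e c.1 ∈ KK), ρ ⟨e c.1, hm⟩ = pi c := by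
  classical
  have hk : pt.k = K.k := by decide
  obtain ⟨φ, hφ⟩ := exists_hom valid hk (fun _ => rfl) hgood hR
  have hφv : ∀ c, c < 5 → ∀ p : Fin pt.n, (φ (e c) p).1 = pt.T c p.1 := by
    intro c hc p
    rw [show e c = K.E Rel c from rfl, hφ c (lt_of_lt_of_le hc (by decide : 5 ≤ K.k))]
    exact hgood.EP_apply (lt_of_lt_of_le hc (by decide : 5 ≤ pt.k)) p
  have hval : ∀ l : List Nat, (∀ z ∈ l, z < pt.k) → ∀ i : Fin pt.n,
      (φ (prodA e l) i).1 = pt.val l i.1 :=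
    fun l hl i => phi_prodA_apply hk hgood φ hφ l (fun z hz => by rw [← hk]; exact hl z hz) i
  have hfin : Finite KK := Nat.finite_of_card_ne_zero (by rw [hcard]; norm_num)
  -- the homomorphism
  have hequiv : ∀ (c : Fin 5) (x : Fin pt.n) (y : Fin 100),
      RR (φ (e c.1) x) (pi c y) ↔ RR x y := by
    intro c x y
    constructor
    · rintro ⟨a', ha', h1, h2⟩
      obtain ⟨h3, h4⟩ := hinvL' c.1 c.2 a' ha'
      refine ⟨ptL.T (invL c.1) a', h4, ?_, ?_⟩
      · -- the letter is the preimage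
        have h5 := ((Cfsg.Agent.Lib.TC.D.HNL.Main.lam_spec h4).2 c.1 c.2).2
        rw [h3, h1] at h5
        have h6 : ∀ q : Fin pt.n, (φ (e c.1) q).1 = pt.T c.1 q.1 := hφv c.1 c.2
        have hlt := (Cfsg.Agent.Lib.TC.D.HNL.Main.lam_spec h4).1
        have h7 : φ (e c.1) x = φ (e c.1) ⟨lam (ptL.T (invL c.1) a'), hlt⟩ := by
          apply Fin.ext
          rw [h5, h6]
        have h8 := (φ (e c.1)).injective h7
        rw [h8]
      · have h5 := hmask' c.1 c.2 _ h4 y.1 y.2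
        rw [h3] at h5
        rw [pi_val] at h2
        rw [← h5]
        exact h2
    · rintro ⟨a, ha, h1, h2⟩
      obtain ⟨h3, h4⟩ := (Cfsg.Agent.Lib.TC.D.HNL.Main.lam_spec ha).2 c.1 c.2
      refine ⟨ptL.T c.1 a, h3, ?_, ?_⟩
      · rw [h4, h1, hφv c.1 c.2]
      · rw [pi_val, hmask' c.1 c.2 a ha y.1 y.2]
        exact h2
  have hls : Subgroup.closure (Set.range fun c : Fin 5 => e c.1) = KK := by
    show _ = Subgroup.closure (e '' {c | c ∈ ([0,1,2,3,4] : List Nat)})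
    congr 1
    ext g
    constructor
    · rintro ⟨c, rfl⟩
      refine ⟨c.1, ?_, rfl⟩
      have h := c.2
      simp only [Set.mem_setOf_eq, List.mem_cons, List.not_mem_nil, or_false]
      omega
    · rintro ⟨c, hc, rfl⟩
      simp only [Set.mem_setOf_eq, List.mem_cons, List.not_mem_nil, or_false] at hc
      have hc5 : c < 5 := by omega
      exact ⟨⟨c, hc5⟩, rfl⟩
  obtain ⟨ρ, hρ⟩ := Cover.exists_rho φ RR sepRR KK (fun c : Fin 5 => e c.1) hls pi hequiv
  have hmemE : ∀ c, c < 5 → e c ∈ KK := by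
    intro c hc
    apply Subgroup.subset_closure
    refine ⟨c, ?_, rfl⟩
    simp only [Set.mem_setOf_eq, List.mem_cons, List.not_mem_nil, or_false]
    omega
  have hgd : ∀ c, c < 5 → ([0,1,2,3,4] : List Nat).getD c 0 = c := by decide
  let E : Nat → KK := stageE e [0,1,2,3,4]
  have hE : ∀ c (hc : c < 5), ρ (E c) = pi ⟨c, hc⟩ := by
    intro c hc
    have h2 : E c = ⟨e c, hmemE c hc⟩ := by
      apply Subtype.ext
      rw [stageE_coe e [0,1,2,3,4] (by simpa using hc), hgd c hc]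
    rw [h2]
    exact hρ ⟨c, hc⟩ (hmemE c hc)
  have hval100 : ∀ l : List Nat, (∀ z ∈ l, z < P100.k) → ∀ i : Fin 100,
      (ρ (prodA E l) i).1 = P100.val l i.1 := by
    intro l
    induction l with
    | nil =>
      intro _ i
      rw [prodA_nil, map_one]
      rfl
    | cons z l ih =>
      intro hl i
      rw [prodA_cons, map_mul, Equiv.Perm.mul_apply, hE z (hl z (by simp))]
      exact ih (fun y hy => hl y (by simp [hy])) (pi ⟨z, hl z (by simp)⟩ i)
  let ρ₀ : KK →* Equiv.Perm (Fin P100.n) := ρ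
  have : NeZero P100.n := ⟨by decide⟩
  have hval₀ : ∀ l : List Nat, (∀ z ∈ l, z < P100.k) → ∀ i : Fin P100.n,
      (ρ₀ (prodA E l) i).1 = P100.val l i.1 := fun l hl i => hval100 l hl i
  have htr : ∀ i : Fin P100.n, ∃ g, ρ₀ g 0 = i := by
    intro i
    have h := hW
    simp only [List.all_eq_true, Bool.and_eq_true, List.mem_range] at h
    obtain ⟨h1, h2⟩ := h i.1 i.2
    refine ⟨prodA E (W100.getD i.1 []), Fin.ext ?_⟩
    exact (hval₀ _ (fun z hz => Nat.le_of_ble_eq_true (h1 z hz)) 0).trans (Nat.eq_of_beq_eq_true h2)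
  have hge : P100.n * prodM lev100 ≤ Nat.card ρ₀.range := card_range_ge hval₀ htr lev100 hlev100
  rw [hprod100] at hge
  -- the range
  have hle : ρ.range ≤ autS := by
    let U : Subgroup (PresentedGroup Rel) := (autS.comap ρ).map KK.subtype
    have hU : KK ≤ U := by
      rw [← hls, Subgroup.closure_le]
      rintro _ ⟨c, rfl⟩
      have h1 : e c.1 ∈ KK := hmemE c.1 c.2
      refine ⟨⟨e c.1, h1⟩, ?_, rfl⟩
      show ρ ⟨e c.1, h1⟩ ∈ autS
      rw [hρ c h1]
      exact pi_aut c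
    rintro _ ⟨g, rfl⟩
    obtain ⟨g', hg', h2⟩ := hU g.2
    have : g' = g := Subtype.ext h2
    rw [← this]
    exact hg'
  have hA := Cfsg.Agent.Lib.TC.D.HNB.Stein.card_autS'
  have hreq : ρ.range = autS := by
    apply Subgroup.eq_of_le_of_card_ge hle
    rw [hA]
    exact hge
  refine ⟨ρ, hreq, ?_, fun c hm => hρ c hm⟩
  have h1 := Subgroup.card_mul_index ρ.ker
  rw [Subgroup.index_ker, hreq, hA, hcard] at h1
  omega

end Cfsg.Agent.Lib.TC.D.HNOut.Rho
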