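import Cfsg.Agent.Lib.TC.D.HNO.Tab
import Cfsg.Agent.Lib.PermComp.Core

/-!
# The points fixed by `y` and its conjugate
-/

set_option autoImplicit false
set_option maxRecDepth 100000

namespace Cfsg.Agent.Lib.TC.D.HNOut.Scan

open Cfsg.Agent.Lib.TC.Core Cfsg.Agent.Lib.TC.Perm Cfsg.Agent.Lib.TC.D.HNO.Tab
open Cfsg.Agent.Lib.PermComp.Core (ifB ifB_eq_true)

/-- A scan of a range of length `2 ^ d`. -/
noncomputable def scan (f : Nat → Bool) (d : Nat) : Nat → Bool :=
  Nat.rec (fun lo => f lo) (fun d ih lo => ifB (ih lo) (ih (Nat.add lo (Nat.pow 2 d)))) d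

theorem scan_spec (f : Nat → Bool) (d lo : Nat) (h : scan f d lo = true) :
    ∀ i, i < 2 ^ d → f (lo + i) = true := by
  induction d generalizing lo with
  | zero =>
    intro i hi
    have : i = 0 := by simpa using hi
    subst this
    exact h
  | succ d ih =>
    have h' : ifB (scan f d lo) (scan f d (Nat.add lo (Nat.pow 2 d))) = true := h
    rw [ifB_eq_true] at h'
    intro i hi
    by_cases hi2 : i < 2 ^ d
    · exact ih lo h'.1 i hi2
    · have h3 := ih _ h'.2 (i - 2 ^ d) (by rw [pow_succ] at hi; omega)
      have h4 : Nat.add lo (Nat.pow 2 d) + (i - 2 ^ d) = lo + i := by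
        show lo + 2 ^ d + (i - 2 ^ d) = lo + i
        omega
      rwa [h4] at h3

/-- The test of a point: a point of the table fixed by both letters is small. -/
noncomputable def tst (p : Nat) : Bool :=
  Bool.rec true
    (Bool.rec true
      (Bool.rec true (Nat.blt p 5) (Nat.beq (pt.val [0,2,1] p) p))
      (Nat.beq (pt.T 2 p) p))
    (Nat.blt p 1539000)

theorem tst_spec {p : Nat} (h : tst p = true) (hp : p < 1539000) (h2 : pt.T 2 p = p)
    (h3 : pt.val [0,2,1] p = p) : p < 5 := by
  have e1 : Nat.blt p 1539000 = true := by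
    simpa using hp
  have e2 : Nat.beq (pt.T 2 p) p = true := by
    rw [h2]; simp
  have e3 : Nat.beq (pt.val [0,2,1] p) p = true := by
    rw [h3]; simp
  unfold tst at h
  rw [e1] at h
  simp only at h
  rw [e2] at h
  simp only at h
  rw [e3] at h
  simp only at h
  exact Nat.le_of_ble_eq_true h

theorem s0 : scan tst 19 0 = true := by decide +kernel

theorem s1 : scan tst 19 524288 = true := by decide +kernel

theorem s2 : scan tst 19 1048576 = true := by decide +kernel

/-- The scan. -/
theorem hscan (p : Nat) (hp : p < 1539000) (h2 : pt.T 2 p = p) (h3 : pt.val [0,2,1] p = p) : p < 5 := by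
  refine tst_spec ?_ hp h2 h3
  by_cases h1 : p < 524288
  · simpa using scan_spec tst 19 0 s0 p (by norm_num; omega)
  by_cases h1' : p < 1048576
  · have := scan_spec tst 19 524288 s1 (p - 524288) (by norm_num; omega)
    rwa [show 524288 + (p - 524288) = p by omega] at this
  · have := scan_spec tst 19 1048576 s2 (p - 1048576) (by norm_num; omega)
    rwa [show 1048576 + (p - 1048576) = p by omega] at this

end Cfsg.Agent.Lib.TC.D.HNOut.Scan
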