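import Cfsg.Agent.Lib.TC.D.HNOut.Complete
import Cfsg.Agent.Lib.TC.D.HNOut.Facts
import Cfsg.Agent.Lib.TC.D.HNOut.Rho
import Cfsg.Agent.Lib.TC.D.HNB.Top
import Cfsg.Agent.Lib.TC.D.HNOut.Scan
import Cfsg.Agent.Lib.TC.D.HNL.Simple
import Cfsg.Agent.Lib.Golay.OutAbs
import Cfsg.Agent.Lib.PermComp.OutP.Abs
import Cfsg.Agent.S2072

/-!
# The outer automorphism group of the Harada-Norton group

An automorphism fixes, up to inner automorphisms, the central involution `ζ` of the stabilizer `KK` of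
a point (the only involution commuting with a certain element of order 11, and the orders of centralizers
and Sylow's theorem apply), acts on `KK / ζ`, the automorphism group of the graph on 100 points, which is
complete, so up to inner automorphisms it changes the elements of `KK` by `ζ` only. Then the images of the letters
`x, y` are fixed, the image of `t` commutes with a subgroup of `KK` with a small set of fixed points.
-/

set_option autoImplicit false
set_option maxRecDepth 100000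

namespace Cfsg.Agent.Lib.TC.D.HNOut.Main

open Cfsg Subgroup
open Cfsg.Agent.Lib.TC.Core Cfsg.Agent.Lib.TC.Enc Cfsg.Agent.Lib.TC.Pres Cfsg.Agent.Lib.TC.Perm
  Cfsg.Agent.Lib.TC.Main Cfsg.Agent.Lib.TC.Chain Cfsg.Agent.Lib.TC.Chain.PermLev
  Cfsg.Agent.Lib.TC.Iso
  Cfsg.Agent.Lib.TC.G.HN Cfsg.Agent.Lib.TC.HNA Cfsg.Agent.Lib.TC.D.HNO.Tab
  Cfsg.Agent.Lib.TC.D.HND.Sys Cfsg.Agent.Lib.TC.D.HNL.Defs Cfsg.Agent.Lib.TC.D.HNL.Lam
  Cfsg.Agent.Lib.TC.D.HNL.Kt Cfsg.Agent.Lib.TC.D.HNC.Ord Cfsg.Agent.Lib.TC.D.HNL.Main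
  Cfsg.Agent.Lib.TC.D.HNO.OrbD Cfsg.Agent.Lib.TC.D.HNC
  Cfsg.Agent.Lib.TC.D.HNL.Simple
open Cfsg.Agent.Lib.Schur.PcBase Cfsg.Agent.Lib.Schur.HN.Model
open Cfsg.Agent.Lib.PermComp.Core (ifB ifB_eq_true allL allL_eq_true)
open Cfsg.Agent.Lib.TC.D.HNOut.Facts Cfsg.Agent.Lib.TC.D.HNOut.Zed
open Cfsg.Agent.Lib.TC.D.HNB.Data (P100)
open Cfsg.Agent.Lib.HS.Graph (adjB adj_iff autS HH_le Γ₀)
open Cfsg.Agent.Lib.HS.Simple (hs_main HH)

/-- The group. -/
abbrev GG := PresentedGroup Rel

/-- The central involution of the stabilizer. -/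
noncomputable abbrev zt : GG := prodA e [0,0]

theorem zt_eq : zt = e 0 * e 0 := by simp [zt]

theorem finG : Finite GG := Nat.finite_of_card_ne_zero (by rw [card_G]; norm_num)

theorem card_kk' : Nat.card KK = 177408000 :=
  Cfsg.Agent.Lib.TC.D.HNB.Top.card_kk hgood card_G

theorem zt_comm_letter (l : Nat) (hl : l < 5) : e l * zt = zt * e l := by
  have h := eqW (hzc l hl)
  rw [zt_eq]
  simpa [mul_assoc] using h

theorem zt_comm (k : GG) (hk : k ∈ KK) : k * zt = zt * k := by
  obtain ⟨w, hw, rfl⟩ := kword k hk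
  induction w with
  | nil => simp
  | cons z l ih =>
    have h1 := ih (fun y hy => hw y (by simp [hy])) (word_mem l (fun y hy => hw y (by simp [hy])))
    have h2 := zt_comm_letter z (hw z (by simp))
    rw [prodA_cons, mul_assoc, h2, ← mul_assoc, h1, mul_assoc]

theorem zt_sq : zt * zt = 1 := by
  have h := eqW hzz
  simpa [zt_eq, mul_assoc] using h

theorem zt_mem : zt ∈ KK := word_mem [0,0] (by decide)

section Act

variable (φ : GG →* Equiv.Perm (Fin pt.n)) (M : Model pt e 7 bs φ)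

include M

theorem hvalM (l : List Nat) (hl : ∀ z ∈ l, z < pt.k) (i : Fin pt.n) :
    (φ (prodA e l) i).1 = pt.val l i.1 := M.hval l hl i

theorem htrM : ∀ i : Fin pt.n, ∃ g, φ g 0 = i := by
  intro i
  obtain ⟨l, hl, hv⟩ := hgood.trans i.1 i.2
  refine ⟨prodA e l, Fin.ext ?_⟩
  rw [hvalM φ M l hl]
  exact hv

theorem zt_ne : zt ≠ 1 := by
  intro h
  have h1 := hvalM φ M [0,0] (by decide) ⟨1, by decide⟩
  rw [show prodA e [0,0] = zt from rfl, h, map_one] at h1
  exact hzmove h1.symm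

theorem t_ne (he : e 5 = 1) : False := by
  have h1 := hvalM φ M [5] (by decide) 0
  have h2 : prodA e [5] = e 5 := by simp
  rw [h2, he, map_one] at h1
  exact ht0 h1.symm

theorem mem_KK_of_fix (c : GG) (hc : φ c 0 = 0) : c ∈ KK := by
  classical
  have hidx : KK.index = 1539000 := main_index hgood card_KK3 card_KK
  have hfinG : Finite GG := finG
  let f : GG ⧸ KK → Fin pt.n := Quotient.lift (fun g => φ g 0) (by
      intro a b hab
      have h1 : a⁻¹ * b ∈ KK := QuotientGroup.leftRel_apply.1 hab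
      have h2 := fix_zero φ (hvalM φ M) _ h1
      rw [map_mul, map_inv, Equiv.Perm.mul_apply, Equiv.Perm.inv_eq_iff_eq] at h2
      exact h2.symm)
  have hsurj : Function.Surjective f := by
    intro i
    obtain ⟨g, hg⟩ := htrM φ M i
    exact ⟨(g : GG ⧸ KK), hg⟩
  have hcard : Nat.card (GG ⧸ KK) = Nat.card (Fin pt.n) := by
    have h1 : Nat.card (GG ⧸ KK) = 1539000 := hidx
    rw [h1, Nat.card_fin]
    decide +kernel
  have hinj := ((Nat.bijective_iff_surjective_and_card f).2 ⟨hsurj, hcard⟩).1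
  have h3 : f (c : GG ⧸ KK) = f ((1 : GG) : GG ⧸ KK) := by
    show φ c 0 = φ 1 0
    rw [hc, map_one]
    rfl
  have h4 := hinj h3
  have h5 : c⁻¹ * 1 ∈ KK := QuotientGroup.eq.1 h4
  simpa using h5

theorem hconn (hlabH : pt.orbRange subs lab oP oW oD repr 0 pt.n = true) :
    ∀ i j : Fin pt.n, lab i.1 = lab j.1 → ∃ g ∈ KK, φ g i = j :=
  orbit_facts' φ e KK subs (fun l hl i => by
      have hl5 : ∀ z ∈ l, z < 5 := by
        have : ∀ l ∈ subs, ∀ z ∈ l, z < 5 := by decide
        exact this l hl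
      exact hval5 φ (hvalM φ M) l hl5 i)
    (fun l hl => by
      have hl5 : ∀ z ∈ l, z < 5 := by
        have : ∀ l ∈ subs, ∀ z ∈ l, z < 5 := by decide
        exact this l hl
      exact word_mem l hl5) lab oP oW oD repr hlabH

omit M in
theorem hlab00 : lab 0 = 0 := by
  exact (hrep 0 (by norm_num)).1

theorem lab_zero (hlabH : pt.orbRange subs lab oP oW oD repr 0 pt.n = true) (i : Fin pt.n) (hi : lab i.1 = 0) : i = 0 := by
  have h0 : lab (0 : Fin pt.n).1 = lab i.1 := by
    rw [hi]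
    exact hlab00
  obtain ⟨g, hg, h⟩ := hconn φ M hlabH 0 i h0
  rw [← h]
  exact fix_zero φ (hvalM φ M) g hg

theorem no_fix (hlabH : pt.orbRange subs lab oP oW oD repr 0 pt.n = true)
    (hlb : ∀ i : Fin pt.n, lab i.1 < 9)
    (hsize' : ∀ ℓ, ℓ < 9 → {i : Fin pt.n | lab i.1 = ℓ}.ncard = size ℓ) (g : GG)
    (hg : g ∈ KK) (hgo : orderOf g = 11) (p : Fin pt.n) (hp : p ≠ 0) : φ g p ≠ p :=
  Cfsg.Agent.Lib.TC.D.HNOut.Complete.no_fix_abs φ KK (fun k hk => fix_zero φ (hvalM φ M) k hk) (fun i => lab i.1)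
    (hconn φ M hlabH) hlb size hsize' (fun i hi => lab_zero φ M hlabH i hi) h11 card_kk' g hg hgo p hp

theorem mem_cent (hlabH : pt.orbRange subs lab oP oW oD repr 0 pt.n = true)
    (hlb : ∀ i : Fin pt.n, lab i.1 < 9) (c : GG) (hc : c * zt = zt * c) : c ∈ KK := by
  apply mem_KK_of_fix φ M
  by_contra hne
  set p := φ c 0 with hp
  have hℓ := hlb p
  have hℓ0 : lab p.1 ≠ 0 := fun h => hne (lab_zero φ M hlabH p h)
  set ℓ := lab p.1 with hℓd
  obtain ⟨h1, h2, h3⟩ := hrep ℓ hℓ
  have hr := hvalM φ M (gl.getD ℓ []) h3 0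
  set W := prodA e (gl.getD ℓ []) with hW
  have hr2 : lab (φ W 0).1 = lab p.1 := by
    rw [hr]
    have : pt.val (gl.getD ℓ []) (0 : Fin pt.n).1 = Cfsg.Agent.Lib.TC.D.HNO.OrbD.repr ℓ := h2
    rw [this, h1]
  obtain ⟨h, hh, ehh⟩ := hconn φ M hlabH _ _ hr2
  have hd : c⁻¹ * (h * W) ∈ KK := by
    apply mem_KK_of_fix φ M
    rw [map_mul, map_mul, Equiv.Perm.mul_apply, Equiv.Perm.mul_apply, ehh, map_inv, Equiv.Perm.inv_eq_iff_eq]
  have hcW : W * zt = zt * W := by
    have e1 : W = h⁻¹ * (c * (c⁻¹ * (h * W))) := by group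
    have h5 := zt_comm _ hd
    have h6 := zt_comm _ (KK.inv_mem hh)
    rw [e1]
    calc h⁻¹ * (c * (c⁻¹ * (h * W))) * zt = h⁻¹ * (c * ((c⁻¹ * (h * W)) * zt)) := by group
      _ = h⁻¹ * (c * (zt * (c⁻¹ * (h * W)))) := by rw [h5]
      _ = h⁻¹ * ((c * zt) * (c⁻¹ * (h * W))) := by group
      _ = h⁻¹ * ((zt * c) * (c⁻¹ * (h * W))) := by rw [hc]
      _ = (h⁻¹ * zt) * (c * (c⁻¹ * (h * W))) := by group
      _ = (zt * h⁻¹) * (c * (c⁻¹ * (h * W))) := by rw [h6]
      _ = zt * (h⁻¹ * (c * (c⁻¹ * (h * W)))) := by group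
  obtain ⟨h7, h8⟩ := hwit ℓ (Nat.pos_of_ne_zero hℓ0) hℓ
  apply h7
  have hz1 : ∀ z ∈ gl.getD ℓ [] ++ [0,0], z < pt.k := by
    intro z hz
    rcases List.mem_append.1 hz with hz | hz
    · exact h3 z hz
    · have : z = 0 := by simpa using hz
      subst this
      decide
  have hz2 : ∀ z ∈ [0,0] ++ gl.getD ℓ [], z < pt.k := by
    intro z hz
    rcases List.mem_append.1 hz with hz | hz
    · have : z = 0 := by simpa using hz
      subst this
      decide
    · exact h3 z hz
  have h9 := hvalM φ M _ hz1 ⟨_, h8⟩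
  have h10 := hvalM φ M _ hz2 ⟨_, h8⟩
  rw [prodA_append, ← hW] at h9 h10
  have h11' : zt * W = W * zt := hcW.symm
  have h12 : prodA e [0,0] * W = W * prodA e [0,0] := h11'
  rw [h12] at h9
  rw [← h9, h10]

end Act

theorem prodA_pow' {Γ : Type*} [Group Γ] (E : Nat → Γ) (w : List Nat) (n : Nat) :
    (prodA E w) ^ n = prodA E (List.flatten (List.replicate n w)) := by
  induction n with
  | zero => simp
  | succ n ih =>
    rw [pow_succ, ih, List.replicate_succ, List.flatten_cons, prodA_append]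

theorem comm_expB (c : GG) (h1 : c * prodA e [2] = prodA e [2] * c)
    (h2 : c * prodA e [0,2,1] = prodA e [0,2,1] * c) (l : List Bool) :
    c * prodA e (expB l) = prodA e (expB l) * c := by
  induction l with
  | nil => simp [expB]
  | cons a l ih =>
    have h3 : Commute c (prodA e (if a then [2] else [0,2,1])) := by
      cases a
      · exact h2
      · exact h1
    have h4 : Commute c (prodA e (expB l)) := ih
    rw [expB, prodA_append]
    exact h4.mul_right h3

theorem perm_one (σ : Equiv.Perm (Fin 100))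
    (h : ∀ g ∈ gensZ, ∃ Q : Equiv.Perm (Fin 100), (∀ q, (Q q).1 = P100.val g q.1) ∧ σ * Q = Q * σ) :
    σ = 1 := by
  let s : Nat → Nat := fun i => if hi : i < 100 then (σ ⟨i, hi⟩).1 else i
  have hs : ∀ i : Fin 100, s i.1 = (σ i).1 := fun i => by simp [s]
  have hZ := lemmaZ s
    (fun i hi => by
      have := hs ⟨i, hi⟩
      simp only at this
      rw [this]
      exact (σ _).2)
    (fun g hg i hi => by
      obtain ⟨Q, hQ, hc⟩ := h g hg
      let q : Fin 100 := ⟨i, hi⟩
      have h1 : F g i = (Q q).1 := (hQ q).symm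
      have h2 : σ (Q q) = Q (σ q) := by
        have := congrArg (fun f : Equiv.Perm (Fin 100) => f q) hc
        simpa using this
      have h3 : s i = (σ q).1 := hs q
      rw [h1, hs (Q q), h2, h3, hQ])
    (fun i j hi hj hij => by
      have h1 := hs ⟨i, hi⟩
      have h2 := hs ⟨j, hj⟩
      simp only at h1 h2
      rw [h1, h2] at hij
      have h3 := σ.injective (Fin.ext hij)
      exact congrArg Fin.val h3)
  apply Equiv.ext
  intro q
  apply Fin.ext
  rw [← hs q]
  exact hZ q.1 q.2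

theorem inv_one (σ : Equiv.Perm (Fin 100)) (ha : σ ∈ autS) (h2 : σ * σ = 1) (Q : Equiv.Perm (Fin 100))
    (hQ : ∀ q, (Q q).1 = P100.val gw q.1) (hc : σ * Q = Q * σ) : σ = 1 := by
  let s : Nat → Nat := fun i => if hi : i < 100 then (σ ⟨i, hi⟩).1 else i
  have hs : ∀ i : Fin 100, s i.1 = (σ i).1 := fun i => by simp [s]
  have hs' : ∀ i (hi : i < 100), s i = (σ ⟨i, hi⟩).1 := fun i hi => hs ⟨i, hi⟩
  have hZ := claim1b s
    (fun i hi => by
      rw [hs' i hi]
      exact (σ _).2)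
    (fun u v hu hv => by
      rw [hs' u hu, hs' v hv]
      have h3 := ha ⟨u, hu⟩ ⟨v, hv⟩
      rw [adj_iff, adj_iff] at h3
      exact Bool.eq_iff_iff.2 h3)
    (fun i hi => by
      let q : Fin 100 := ⟨i, hi⟩
      have h1 : F gw i = (Q q).1 := (hQ q).symm
      have h3 : σ (Q q) = Q (σ q) := by
        have := congrArg (fun f : Equiv.Perm (Fin 100) => f q) hc
        simpa using this
      have h4 : s i = (σ q).1 := hs q
      rw [h1, hs (Q q), h3, h4, hQ])
    (fun i j hi hj hij => by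
      rw [hs' i hi, hs' j hj] at hij
      have h3 := σ.injective (Fin.ext hij)
      exact congrArg Fin.val h3)
    (fun i hi => by
      rw [hs' i hi, hs (σ ⟨i, hi⟩)]
      have := congrArg (fun f : Equiv.Perm (Fin 100) => (f ⟨i, hi⟩).1) h2
      simpa using this)
  apply Equiv.ext
  intro q
  apply Fin.ext
  rw [← hs q]
  exact hZ q.1 q.2

section Rho

variable (ρ : KK →* Equiv.Perm (Fin 100)) (hr : ρ.range = autS) (hk : Nat.card ρ.ker = 2)
  (hl : ∀ (c : Fin 5) (hm : e c.1 ∈ KK), ρ ⟨e c.1, hm⟩ = Cfsg.Agent.Lib.TC.D.HNB.Main.pi c)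

include hl in
theorem rhoval (w : List Nat) (hw : ∀ z ∈ w, z < 5) (hm : prodA e w ∈ KK) (q : Fin 100) :
    (ρ ⟨prodA e w, hm⟩ q).1 = P100.val w q.1 := by
  induction w generalizing q with
  | nil =>
    have h0 : (⟨prodA e [], hm⟩ : KK) = 1 := Subtype.ext rfl
    rw [h0, map_one]
    rfl
  | cons z l ih =>
    have hz5 := hw z (by simp)
    have hzm : e z ∈ KK := by
      have := word_mem [z] (by simpa using hz5)
      simpa using this
    have hlw : ∀ y ∈ l, y < 5 := fun y hy => hw y (by simp [hy])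
    have hlm := word_mem l hlw
    have h0 : (⟨prodA e (z :: l), hm⟩ : KK) = ⟨prodA e l, hlm⟩ * ⟨e z, hzm⟩ :=
      Subtype.ext (by simp [prodA_cons])
    rw [h0, map_mul, Equiv.Perm.mul_apply, hl ⟨z, hz5⟩ hzm, ih hlw hlm,
      Cfsg.Agent.Lib.TC.D.HNB.Main.pi_val]
    rfl

include hl in
theorem rho_zt : ρ ⟨zt, zt_mem⟩ = 1 := by
  apply Equiv.ext
  intro q
  apply Fin.ext
  rw [rhoval ρ hl [0,0] (by decide) zt_mem q, hz100 q.1 q.2]
  rfl

include hk hl in
theorem ker_two (hne : zt ≠ 1) (k : KK) (h0 : ρ k = 1) : (k : GG) = 1 ∨ (k : GG) = zt := by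
  classical
  by_contra hcon
  rw [not_or] at hcon
  obtain ⟨h1, h2⟩ := hcon
  have hm1 : k ∈ ρ.ker := h0
  have hm2 : (⟨zt, zt_mem⟩ : KK) ∈ ρ.ker := rho_zt ρ hl
  let a : ρ.ker := ⟨k, hm1⟩
  let b : ρ.ker := ⟨_, hm2⟩
  have hfin : Finite ρ.ker := Nat.finite_of_card_ne_zero (by rw [hk]; norm_num)
  have h3 : ({1, a, b} : Finset ρ.ker).card = 3 := by
    rw [Finset.card_eq_three]
    refine ⟨1, a, b, ?_, ?_, ?_, rfl⟩
    · intro h
      apply h1
      have := congrArg (fun x : ρ.ker => ((x : KK) : GG)) h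
      exact this.symm
    · intro h
      apply hne
      have := congrArg (fun x : ρ.ker => ((x : KK) : GG)) h
      exact this.symm
    · intro h
      apply h2
      exact congrArg (fun x : ρ.ker => ((x : KK) : GG)) h
  have h4 : ({1, a, b} : Finset ρ.ker).card ≤ Nat.card ρ.ker := by
    have := Fintype.ofFinite ρ.ker
    rw [Nat.card_eq_fintype_card]
    exact Finset.card_le_univ _
  omega

include hl in
theorem cent_yy (c : GG) (hc : c ∈ KK) (h1 : c * prodA e [2] = prodA e [2] * c)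
    (h2 : c * prodA e [0,2,1] = prodA e [0,2,1] * c) : ρ ⟨c, hc⟩ = 1 := by
  apply perm_one
  intro g hg
  have hg5 := hgZ5 g hg
  have hm := word_mem g hg5
  refine ⟨ρ ⟨prodA e g, hm⟩, fun q => rhoval ρ hl g hg5 hm q, ?_⟩
  rw [← map_mul, ← map_mul]
  congr 1
  apply Subtype.ext
  show c * prodA e g = prodA e g * c
  rw [hgensI] at hg
  obtain ⟨l, -, rfl⟩ := List.mem_map.1 hg
  exact comm_expB c h1 h2 l

include hr hl in
theorem hcent_aut (hidx : (HH.subgroupOf autS).index = 2) (c : autS)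
    (hc : ∀ h ∈ HH.subgroupOf autS, c * h = h * c) : c = 1 := by
  apply Subtype.ext
  apply perm_one
  intro g hg
  obtain ⟨h1, h2⟩ := hsqZ g hg
  set u := g.take (g.length / 2) with hu
  have hm := word_mem u h2
  let k : KK := ⟨prodA e u, hm⟩
  let P : autS := ⟨ρ k, by rw [← hr]; exact ⟨k, rfl⟩⟩
  have hPP : P ^ 2 ∈ HH.subgroupOf autS := Subgroup.sq_mem_of_index_two hidx P
  refine ⟨((P ^ 2 : autS) : Equiv.Perm (Fin 100)), fun q => ?_, ?_⟩
  · have h3 : (((P ^ 2 : autS) : Equiv.Perm (Fin 100)) q) = ρ k (ρ k q) := by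
      rw [pow_two]
      rfl
    rw [h3]
    have h4 := rhoval ρ hl u h2 hm (ρ k q)
    have h5 := rhoval ρ hl u h2 hm q
    have h6 : P100.val g q.1 = F (u ++ u) q.1 := by rw [h1]
    rw [h6, F_append]
    exact h4.trans (by rw [h5])
  · exact congrArg Subtype.val (hc _ hPP)

include hr hl in
/-- The automorphism group of the graph is complete. -/
theorem complete_aut (β : MulAut autS) : ∃ s : autS, ∀ u, β u = s * u * s⁻¹ := by
  let H : Subgroup autS := HH.subgroupOf autS
  have eH : H ≃* HH := Subgroup.subgroupOfEquivOfLe HH_le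
  have hA := Cfsg.Agent.Lib.TC.D.HNB.Stein.card_autS'
  have hcH : Nat.card H = 44352000 := (Nat.card_congr eH.toEquiv).trans hs_main.2
  have hidx : H.index = 2 := by
    have h1 := Subgroup.card_mul_index H
    rw [hcH, hA] at h1
    omega
  have hsH : IsSimpleGroup H := by
    have := hs_main.1
    exact eH.isSimpleGroup
  obtain ⟨e3⟩ := Cfsg.Agent.Lib.TC.D.HNB.Stein.iso_HH'
  have hout : Nat.card (Cfsg.Out H) = 2 := by
    rw [Cfsg.Agent.Lib.PermComp.OutP.card_out_congr (eH.trans e3.symm)]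
    exact Cfsg.Agent.S2072.result
  exact Cfsg.Agent.Lib.TC.D.HNOut.Complete.complete_of H hidx hsH (by rw [hcH]; norm_num)
    (fun c hc => hcent_aut ρ hr hl hidx c hc) hout β

end Rho

section Final

variable (φ : GG →* Equiv.Perm (Fin pt.n)) (M : Model pt e 7 bs φ)
  (ρ : KK →* Equiv.Perm (Fin 100)) (hr : ρ.range = autS) (hk : Nat.card ρ.ker = 2)
  (hl : ∀ (c : Fin 5) (hm : e c.1 ∈ KK), ρ ⟨e c.1, hm⟩ = Cfsg.Agent.Lib.TC.D.HNB.Main.pi c)
  (hlabH : pt.orbRange subs lab oP oW oD repr 0 pt.n = true)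
  (hlb : ∀ i : Fin pt.n, lab i.1 < 9)
  (hsize' : ∀ ℓ, ℓ < 9 → {i : Fin pt.n | lab i.1 = ℓ}.ncard = size ℓ)

include M in
theorem g_order : orderOf (prodA e gw) = 11 := by
  haveI : Fact (Nat.Prime 11) := ⟨by norm_num⟩
  apply orderOf_eq_prime
  · rw [prodA_pow']
    exact eqW hgp
  · intro h
    have h1 := hvalM φ M gw (by decide +kernel) ⟨1, by decide⟩
    rw [h, map_one] at h1
    exact hgm h1.symm

include M hr hk hl hlabH hlb hsize' in
theorem invol_unique (ι : GG) (h1 : ι * ι = 1) (hne : ι ≠ 1) (hc : ι * prodA e gw = prodA e gw * ι) :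
    ι = zt := by
  have hgm' := word_mem gw hgw5
  have hfix : φ ι 0 = 0 := by
    by_contra hp
    apply no_fix φ M hlabH hlb hsize' _ hgm' (g_order φ M) (φ ι 0) hp
    have h2 : φ (prodA e gw) (φ ι 0) = φ ι (φ (prodA e gw) 0) := by
      rw [← Equiv.Perm.mul_apply, ← map_mul, ← hc, map_mul, Equiv.Perm.mul_apply]
    rw [h2, fix_zero φ (hvalM φ M) _ hgm']
  have hιm := mem_KK_of_fix φ M ι hfix
  have hA : ρ ⟨ι, hιm⟩ ∈ autS := by
    rw [← hr]
    exact ⟨_, rfl⟩
  have h2 : ρ ⟨ι, hιm⟩ * ρ ⟨ι, hιm⟩ = 1 := by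
    rw [← map_mul]
    have h3 : (⟨ι, hιm⟩ * ⟨ι, hιm⟩ : KK) = 1 := Subtype.ext h1
    rw [h3, map_one]
  have hcomm : ρ ⟨ι, hιm⟩ * ρ ⟨prodA e gw, hgm'⟩ = ρ ⟨prodA e gw, hgm'⟩ * ρ ⟨ι, hιm⟩ := by
    rw [← map_mul, ← map_mul]
    have h3 : (⟨ι, hιm⟩ * ⟨prodA e gw, hgm'⟩ : KK) = ⟨prodA e gw, hgm'⟩ * ⟨ι, hιm⟩ := Subtype.ext hc
    rw [h3]
  have hσ : ρ ⟨ι, hιm⟩ = 1 :=
    inv_one (ρ ⟨ι, hιm⟩) hA h2 (ρ ⟨prodA e gw, hgm'⟩) (fun q => rhoval ρ hl gw hgw5 hgm' q) hcomm
  rcases ker_two ρ hk hl (zt_ne φ M) ⟨ι, hιm⟩ hσ with h | h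
  · exact absurd h hne
  · exact h

include M hr hk hl hlabH hlb hsize' in
theorem reduce (α : MulAut GG) : ∃ i ∈ Cfsg.Inn GG, (i * α) zt = zt ∧ ∀ k ∈ KK, (i * α) k = k ∨ (i * α) k = k * zt := by
  classical
  have hfinG := finG
  set g := prodA e gw with hg
  have hgmem : g ∈ KK := word_mem gw hgw5
  have hgo : orderOf g = 11 := g_order φ M
  have : Fact (Nat.Prime 11) := ⟨by norm_num⟩
  obtain ⟨c, k, hc, hk11⟩ := Cfsg.Agent.Lib.Golay.OutAbs.exists_conj_pow 11 24820992000000
    (by rw [card_G]) (by norm_num) g (α g) hgo (by rw [MulEquiv.orderOf_eq]; exact hgo)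
  have hzg : α zt * α g = α g * α zt := by
    rw [← map_mul, ← map_mul, zt_comm g hgmem]
  set ι := c * α zt * c⁻¹ with hι
  have h1 : Commute ι (g ^ k) := by
    rw [← hc]
    show ι * (c * α g * c⁻¹) = (c * α g * c⁻¹) * ι
    calc ι * (c * α g * c⁻¹) = c * (α zt * α g) * c⁻¹ := by rw [hι]; group
      _ = c * (α g * α zt) * c⁻¹ := by rw [hzg]
      _ = (c * α g * c⁻¹) * ι := by rw [hι]; group
  have hcop : Nat.Coprime k 11 := ((Nat.Prime.coprime_iff_not_dvd (by norm_num)).2 hk11).symm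
  obtain ⟨m, -, hm⟩ := Nat.exists_mul_mod_eq_one_of_coprime hcop (by norm_num)
  have h2 : (g ^ k) ^ m = g := by
    rw [← pow_mul, ← pow_mod_orderOf, hgo, hm, pow_one]
  have h3 : Commute ι g := by
    have := h1.pow_right m
    rwa [h2] at this
  have hιz : ι = zt := by
    apply invol_unique φ M ρ hr hk hl hlabH hlb hsize' ι ?_ ?_ h3
    · have h4 : α zt * α zt = 1 := by rw [← map_mul, zt_sq, map_one]
      calc ι * ι = c * (α zt * α zt) * c⁻¹ := by rw [hι]; group
        _ = 1 := by rw [h4]; group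
    · intro h4
      have h5 : α zt = 1 := by
        have : c * α zt * c⁻¹ = 1 := h4
        have h6 : α zt = c⁻¹ * (c * α zt * c⁻¹) * c := by group
        rw [h6, this]
        group
      apply zt_ne φ M
      apply α.injective
      rw [h5, map_one]
  let α₁ : MulAut GG := MulAut.conj c * α
  have hα₁v : ∀ x, α₁ x = c * α x * c⁻¹ := fun x => rfl
  have hα₁z : α₁ zt = zt := hιz
  have hKK : ∀ k ∈ KK, α₁ k ∈ KK := by
    intro k hk'
    apply mem_cent φ M hlabH hlb
    have h4 := congrArg α₁ (zt_comm k hk')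
    rwa [map_mul, map_mul, hα₁z] at h4
  have hfK : Finite KK := Nat.finite_of_card_ne_zero (by rw [card_kk']; norm_num)
  have hmapKK : KK.map α₁.toMonoidHom = KK := by
    apply Subgroup.eq_of_le_of_card_ge
    · rintro _ ⟨x, hx, rfl⟩
      exact hKK x hx
    · exact le_of_eq (Nat.card_congr (α₁.subgroupMap KK).toEquiv)
  let αK : KK ≃* KK := (α₁.subgroupMap KK).trans (MulEquiv.subgroupCongr hmapKK)
  have hαK : ∀ x : KK, ((αK x : KK) : GG) = α₁ x := fun _ => rfl
  let ρ' : KK →* autS := ρ.codRestrict autS (fun g => by rw [← hr]; exact ⟨g, rfl⟩)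
  have hsurj : Function.Surjective ρ' := by
    rintro ⟨y, hy⟩
    rw [← hr] at hy
    obtain ⟨g, rfl⟩ := hy
    exact ⟨g, rfl⟩
  have hker : ∀ x : KK, x ∈ ρ'.ker → αK x = x := by
    intro x hx
    have h4 : ρ x = 1 := congrArg Subtype.val ((MonoidHom.mem_ker).1 hx)
    apply Subtype.ext
    rw [hαK]
    rcases ker_two ρ hk hl (zt_ne φ M) x h4 with h | h
    · rw [h, map_one]
    · rw [h, hα₁z]
  have hkm : ρ'.ker.map αK.toMonoidHom = ρ'.ker := by
    ext x
    constructor
    · rintro ⟨y, hy, rfl⟩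
      have h4 := hker y hy
      show αK y ∈ _
      rw [h4]
      exact hy
    · intro hx
      exact ⟨x, hx, hker x hx⟩
  let E := QuotientGroup.quotientKerEquivOfSurjective ρ' hsurj
  let C := QuotientGroup.congr ρ'.ker ρ'.ker αK hkm
  let β : MulAut autS := E.symm.trans (C.trans E)
  have hβ : ∀ x : KK, β (ρ' x) = ρ' (αK x) := by
    intro x
    have h5 : E.symm (ρ' x) = (x : KK ⧸ ρ'.ker) := by
      rw [MulEquiv.symm_apply_eq]
      rfl
    show E (C (E.symm (ρ' x))) = _
    rw [h5]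
    rfl
  obtain ⟨s, hs⟩ := complete_aut ρ hr hl β
  obtain ⟨h, rfl⟩ := hsurj s
  have hinner : ∀ x, (MulAut.conj ((h : GG)⁻¹ * c) * α) x = (h : GG)⁻¹ * α₁ x * h := by
    intro x
    show ((h : GG)⁻¹ * c) * α x * ((h : GG)⁻¹ * c)⁻¹ = _
    rw [hα₁v]
    group
  refine ⟨MulAut.conj ((h : GG)⁻¹ * c), ⟨_, rfl⟩, ?_, ?_⟩
  · rw [hinner, hα₁z, mul_assoc, ← zt_comm (h : GG) h.2]
    group
  · intro k' hk'
    rw [hinner]
    let x : KK := ⟨k', hk'⟩
    let y : KK := h⁻¹ * αK x * h
    have hy : ρ' y = ρ' x := by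
      have h6 := hβ x
      rw [hs] at h6
      simp only [y, map_mul, map_inv]
      rw [← h6]
      group
    have hy2 : ρ (x⁻¹ * y) = 1 := by
      have h7 : ρ' (x⁻¹ * y) = 1 := by
        rw [map_mul, map_inv, hy]
        group
      exact congrArg Subtype.val h7
    have hyv : ((y : KK) : GG) = (h : GG)⁻¹ * α₁ k' * h := rfl
    rw [← hyv]
    rcases ker_two ρ hk hl (zt_ne φ M) (x⁻¹ * y) hy2 with h8 | h8
    · left
      have h9 : (k' : GG)⁻¹ * (y : GG) = 1 := h8
      exact (inv_mul_eq_one.1 h9).symm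
    · right
      have h9 : (k' : GG)⁻¹ * (y : GG) = zt := h8
      rw [← h9]
      group

theorem einv (l : Nat) (hl : l < 7) : e (invF l) = (e l)⁻¹ := (Cols.E_inv valid l hl).2

theorem sub_lt (a b c : Bool) (k l : Nat) : ∀ z ∈ sub a b c k l, z < 7 := by
  intro z hz
  unfold sub at hz
  rcases (by omega : l = 0 ∨ l = 1 ∨ l = 2 ∨ l = 3 ∨ l = 4 ∨ l = 5 ∨ l = 6 ∨ 7 ≤ l) with
    rfl | rfl | rfl | rfl | rfl | rfl | rfl | h
  · cases a <;> simp at hz <;> omega
  · cases a <;> simp at hz <;> omega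
  · cases b <;> simp at hz <;> omega
  · cases b <;> simp at hz <;> omega
  · cases c <;> simp at hz <;> omega
  · simp at hz
    omega
  · simp at hz
    omega
  · rw [List.getD_eq_default _ _ (by simp; omega)] at hz
    simp at hz

theorem expd_lt (f : Nat → List Nat) (hf : ∀ l, ∀ z ∈ f l, z < 7) (w : List Nat) : ∀ z ∈ expd f w, z < 7 := by
  induction w with
  | nil => simp [expd]
  | cons a l ih =>
    intro z hz
    rw [expd, List.mem_append] at hz
    rcases hz with hz | hz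
    · exact hf a z hz
    · exact ih z hz

include M in
theorem chkId_of_one (w : List Nat) (hw : ∀ z ∈ w, z < 7) (h : prodA e w = 1) : chkId w = true := by
  rw [chkId, allL_eq_true]
  intro b hb
  have hlt := M.hlt b hb
  have h1 := M.hval w hw ⟨b, hlt⟩
  rw [h, map_one] at h1
  have h2 : pt.val w b = b := h1.symm
  rw [h2]
  exact Nat.beq_refl b

theorem sub_inv (a b c : Bool) (k : Nat) (hk5 : k < 5) (l : Nat) (hl : l ∈ [0,2,4,5]) :
    prodA e (sub a b c k (invF l)) = (prodA e (sub a b c k l))⁻¹ := by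
  have h := eqW (hinvchk a b c k hk5 l hl)
  rw [prodA_append] at h
  exact eq_inv_of_mul_eq_one_left h

theorem t_pow_comm (u : GG) (hu : u * e 5 = e 5 * u) (k : Nat) :
    u * prodA e (List.replicate k 5) = prodA e (List.replicate k 5) * u := by
  induction k with
  | zero => simp
  | succ k ih =>
    have h1 : Commute u (prodA e (List.replicate k 5)) := ih
    have h2 : Commute u (e 5) := hu
    rw [List.replicate_succ, prodA_cons]
    exact h1.mul_right h2

theorem t_y : prodA e [2] * e 5 = e 5 * prodA e [2] := by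
  have h := eqW hty
  simpa using h

theorem t_y' : prodA e [0,2,1] * e 5 = e 5 * prodA e [0,2,1] := by
  have h := eqW hty'
  have h1 : prodA e [5,0,2,1] = prodA e [0,2,1] * e 5 := by simp [prodA_cons]
  have h2 : prodA e [0,2,1,5] = e 5 * prodA e [0,2,1] := by simp [prodA_cons, mul_assoc]
  rw [h1, h2] at h
  exact h

include M hk hl in
/-- The images of the letters. -/
theorem letters (A : MulAut GG) (h1 : A zt = zt) (h2 : ∀ k ∈ KK, A k = k ∨ A k = k * zt) :
    ∃ (c : Bool) (k : Nat), ((c = false ∧ (k = 1 ∨ k = 4)) ∨ (c = true ∧ (k = 2 ∨ k = 3))) ∧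
      ∀ l, l < 7 → A (e l) = prodA e (sub false false c k l) := by
  have hmem : ∀ l, l < 5 → e l ∈ KK := by
    intro l hl
    have := word_mem [l] (by simpa using hl)
    simpa using this
  have hzt : ∀ l, prodA e [0,0,l] = e l * zt := by
    intro l
    simp [prodA_cons, zt_eq, mul_assoc]
  obtain ⟨a, ha⟩ : ∃ a : Bool, ∀ b c k, A (e 0) = prodA e (sub a b c k 0) := by
    rcases h2 _ (hmem 0 (by norm_num)) with h | h
    · exact ⟨false, fun b c k => by rw [h]; simp [sub]⟩
    · exact ⟨true, fun b c k => by rw [h]; simp [sub, hzt]⟩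
  obtain ⟨b, hb⟩ : ∃ b : Bool, ∀ a c k, A (e 2) = prodA e (sub a b c k 2) := by
    rcases h2 _ (hmem 2 (by norm_num)) with h | h
    · exact ⟨false, fun a c k => by rw [h]; simp [sub]⟩
    · exact ⟨true, fun a c k => by rw [h]; simp [sub, hzt]⟩
  obtain ⟨c, hc⟩ : ∃ c : Bool, ∀ a b k, A (e 4) = prodA e (sub a b c k 4) := by
    rcases h2 _ (hmem 4 (by norm_num)) with h | h
    · exact ⟨false, fun a b k => by rw [h]; simp [sub]⟩
    · exact ⟨true, fun a b k => by rw [h]; simp [sub, hzt]⟩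
  have hA1 : ∀ k, k < 5 → A (e 1) = prodA e (sub a b c k 1) := by
    intro k hk5
    have h3 := sub_inv a b c k hk5 0 (by simp)
    have h4 : e 1 = (e 0)⁻¹ := einv 0 (by norm_num)
    rw [h4, map_inv, ha b c k]
    exact h3.symm
  have hA3 : ∀ k, k < 5 → A (e 3) = prodA e (sub a b c k 3) := by
    intro k hk5
    have h3 := sub_inv a b c k hk5 2 (by simp)
    have h4 : e 3 = (e 2)⁻¹ := einv 2 (by norm_num)
    rw [h4, map_inv, hb a c k]
    exact h3.symm
  have hA5 : ∀ k, k < 5 → ∀ l, l < 5 → A (e l) = prodA e (sub a b c k l) := by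
    intro k hk5 l hl
    interval_cases l
    · exact ha b c k
    · exact hA1 k hk5
    · exact hb a c k
    · exact hA3 k hk5
    · exact hc a b k
  have hword : ∀ k, k < 5 → ∀ w : List Nat, (∀ z ∈ w, z < 5) → A (prodA e w) = prodA e (expd (sub a b c k) w) := by
    intro k hk5 w hw
    have := map_prodA A.toMonoidHom e (fun l => prodA e (sub a b c k l)) 5 (fun l hl => hA5 k hk5 l hl) w hw
    rw [prodA_expd] at this
    exact this
  have hab : a = false ∧ b = false := by
    have hR3' : prodA e Facts.R3 = 1 := eqW hR3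
    have hR9' : prodA e Facts.R9 = 1 := eqW hR9
    have h3 := hword 1 (by norm_num) Facts.R3 (by decide)
    have h4 := hword 1 (by norm_num) Facts.R9 (by decide)
    rw [hR3', map_one] at h3
    rw [hR9', map_one] at h4
    exact hRab a b c (chkId_of_one φ M _ (expd_lt _ (sub_lt a b c 1) _) h3.symm)
      (chkId_of_one φ M _ (expd_lt _ (sub_lt a b c 1) _) h4.symm)
  obtain ⟨rfl, rfl⟩ := hab
  -- the letters `y` and its conjugate are fixed
  have hy : A (prodA e [2]) = prodA e [2] := by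
    have := hword 1 (by norm_num) [2] (by decide)
    rw [this]
    rfl
  have hy' : A (prodA e [0,2,1]) = prodA e [0,2,1] := by
    have := hword 1 (by norm_num) [0,2,1] (by decide)
    rw [this]
    rfl
  set Y := A (e 5) with hY
  have hcy : prodA e [2] * Y = Y * prodA e [2] := by
    have := congrArg A t_y
    rwa [map_mul, map_mul, hy] at this
  have hcy' : prodA e [0,2,1] * Y = Y * prodA e [0,2,1] := by
    have := congrArg A t_y'
    rwa [map_mul, map_mul, hy'] at this
  have hym : prodA e [2] ∈ KK := word_mem [2] (by decide)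
  have hym' : prodA e [0,2,1] ∈ KK := word_mem [0,2,1] (by decide)
  set p := φ Y 0 with hp
  have hfy : φ (prodA e [2]) p = p := by
    rw [hp, ← Equiv.Perm.mul_apply, ← map_mul, hcy, map_mul, Equiv.Perm.mul_apply,
      fix_zero φ (hvalM φ M) _ hym]
  have hfy' : φ (prodA e [0,2,1]) p = p := by
    rw [hp, ← Equiv.Perm.mul_apply, ← map_mul, hcy', map_mul, Equiv.Perm.mul_apply,
      fix_zero φ (hvalM φ M) _ hym']
  have hs1 := hvalM φ M [2] (by decide) p
  have hs2 := hvalM φ M [0,2,1] (by decide) p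
  rw [hfy] at hs1
  rw [hfy'] at hs2
  have hp5 : p.1 < 5 := Cfsg.Agent.Lib.TC.D.HNOut.Scan.hscan p.1 p.2 hs1.symm hs2.symm
  obtain ⟨hk1, hk2⟩ := hkOf p.1 hp5
  set k0 := kOf p.1 with hk0
  set W := prodA e (List.replicate k0 5) with hW
  have hWz : ∀ z ∈ List.replicate k0 5, z < pt.k := by
    intro z hz
    rw [List.eq_of_mem_replicate hz]
    decide
  have hWp : φ W 0 = p := by
    apply Fin.ext
    rw [hvalM φ M _ hWz 0]
    exact hk1
  have hcm : W⁻¹ * Y ∈ KK := by
    apply mem_KK_of_fix φ M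
    rw [map_mul, Equiv.Perm.mul_apply, ← hp, map_inv, Equiv.Perm.inv_eq_iff_eq, hWp]
  have hWy : Commute (prodA e [2]) W := t_pow_comm _ t_y k0
  have hWy' : Commute (prodA e [0,2,1]) W := t_pow_comm _ t_y' k0
  have hcc1 : (W⁻¹ * Y) * prodA e [2] = prodA e [2] * (W⁻¹ * Y) := by
    have h3 : Commute (prodA e [2]) (W⁻¹ * Y) := hWy.inv_right.mul_right hcy
    exact h3.symm
  have hcc2 : (W⁻¹ * Y) * prodA e [0,2,1] = prodA e [0,2,1] * (W⁻¹ * Y) := by
    have h3 : Commute (prodA e [0,2,1]) (W⁻¹ * Y) := hWy'.inv_right.mul_right hcy'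
    exact h3.symm
  have hρ1 := cent_yy ρ hl _ hcm hcc1 hcc2
  have hY5 : Y ^ 5 = 1 := by
    have h3 : (e 5) ^ 5 = 1 := by
      have := eqW ht5
      have h4 : prodA e [5,5,5,5,5] = (e 5) ^ 5 := by
        simp [prodA_cons, pow_succ]
      rw [← h4, this]
      rfl
    rw [hY, ← map_pow, h3, map_one]
  have hYW : Y = W := by
    rcases ker_two ρ hk hl (zt_ne φ M) ⟨_, hcm⟩ hρ1 with h | h
    · have h3 : W⁻¹ * Y = 1 := h
      exact (inv_mul_eq_one.1 h3).symm
    · exfalso
      have h3 : W⁻¹ * Y = zt := h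
      have h4 : Y = W * zt := by rw [← h3]; group
      have h5 : W * zt = prodA e ([0,0] ++ List.replicate k0 5) := by
        rw [prodA_append]
      have h6 : prodA e (List.flatten (List.replicate 5 ([0,0] ++ List.replicate k0 5))) = 1 := by
        rw [← prodA_pow', ← h5, ← h4, hY5]
      have h7 : ∀ z ∈ List.flatten (List.replicate 5 ([0,0] ++ List.replicate k0 5)), z < 7 := by
        intro z hz
        obtain ⟨l, hl', hz'⟩ := List.mem_flatten.1 hz
        rw [List.eq_of_mem_replicate hl'] at hz'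
        rcases List.mem_append.1 hz' with h8 | h8
        · have : z = 0 := by simpa using h8
          omega
        · have := List.eq_of_mem_replicate h8
          omega
      have h8 := chkId_of_one φ M _ h7 h6
      rw [hfive k0 hk2] at h8
      exact absurd h8 (by simp)
  have hk0ne : k0 ≠ 0 := by
    intro h0
    have h3 : Y = 1 := by
      rw [hYW, hW, h0]
      rfl
    have h4 : e 5 = 1 := by
      apply A.injective
      rw [← hY, h3, map_one]
    exact t_ne φ M h4
  have hA5' : A (e 5) = prodA e (sub false false c k0 5) := by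
    rw [← hY, hYW]
    rfl
  have hA6 : A (e 6) = prodA e (sub false false c k0 6) := by
    have h3 := sub_inv false false c k0 hk2 5 (by simp)
    have h4 : e 6 = (e 5)⁻¹ := einv 5 (by norm_num)
    rw [h4, map_inv, hA5']
    exact h3.symm
  have hAll : ∀ l, l < 7 → A (e l) = prodA e (sub false false c k0 l) := by
    intro l hl
    by_cases h5 : l < 5
    · exact hA5 k0 hk2 l h5
    · have : l = 5 ∨ l = 6 := by omega
      rcases this with rfl | rfl
      · exact hA5'
      · exact hA6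
  refine ⟨c, k0, ?_, hAll⟩
  have hword7 : A (prodA e Rt) = prodA e (expd (sub false false c k0) Rt) := by
    have := map_prodA A.toMonoidHom e (fun l => prodA e (sub false false c k0 l)) 7 hAll Rt (by decide)
    rw [prodA_expd] at this
    exact this
  have hRt' : prodA e Rt = 1 := eqW hRt
  rw [hRt', map_one] at hword7
  exact hck c k0 (Nat.pos_of_ne_zero hk0ne) hk2
    (chkId_of_one φ M _ (expd_lt _ (sub_lt false false c k0) _) hword7.symm)

/-- An extension principle for automorphisms. -/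
theorem aut_ext (a b : MulAut GG) (h : ∀ l, l < 7 → a (e l) = b (e l)) : a = b := by
  have h1 : a.toMonoidHom = b.toMonoidHom := by
    apply PresentedGroup.ext
    intro x
    have h2 := Cols.E_col valid x
    have h3 := h (K.col x) (valid.col_lt x)
    rw [show K.E Rel (K.col x) = e (K.col x) from rfl] at h2
    rw [h2] at h3
    exact h3
  apply MulEquiv.ext
  intro x
  exact congrArg (fun f : GG →* GG => f x) h1

theorem conj_word (w : List Nat) : prodA e ([1,1] ++ w ++ [0,0]) = zt * prodA e w * zt⁻¹ := by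
  have h1 : prodA e [1,1] = zt⁻¹ := by
    have h4 : e 1 = (e 0)⁻¹ := einv 0 (by norm_num)
    simp [prodA_cons, zt_eq, h4]
  rw [prodA_append, prodA_append, h1]
  group

/-- The outer automorphism. -/
theorem exists_tau : ∃ τ : MulAut GG, (∀ l, l < 7 → τ (e l) = prodA e (sub false false true 2 l)) ∧
    τ * τ = MulAut.conj zt := by
  have hfinG := finG
  obtain ⟨ψ, hψ⟩ := exists_hom_of_letters valid hR (fun l => prodA e (sub false false true 2 l))
    (fun c hc => by
      have h := eqW (hinvT c hc)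
      rw [prodA_append] at h
      exact eq_inv_of_mul_eq_one_left h)
    (fun l hl => by
      rw [prodA_expd]
      exact eqW (hrelT l hl))
  have hψ2 : ψ.comp ψ = (MulAut.conj zt).toMonoidHom := by
    apply PresentedGroup.ext
    intro x
    have h2 := Cols.E_col valid x
    have hc := valid.col_lt x
    rw [← h2]
    show ψ (ψ (K.E Rel (K.col x))) = MulAut.conj zt (K.E Rel (K.col x))
    rw [hψ _ hc]
    have h3 := map_prodA ψ (K.E Rel) (fun l => prodA e (sub false false true 2 l)) 7 hψ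
      (sub false false true 2 (K.col x)) (sub_lt _ _ _ _ _)
    rw [h3, prodA_expd, eqW (htau2 _ hc)]
    have h4 := conj_word [K.col x]
    have h5 : ([1,1] ++ [K.col x] ++ [0,0] : List Nat) = [1,1,K.col x,0,0] := rfl
    rw [h5] at h4
    rw [h4, MulAut.conj_apply]
    simp
  have hsurj : Function.Surjective ψ := by
    intro x
    refine ⟨ψ ((MulAut.conj zt)⁻¹ x), ?_⟩
    have := congrArg (fun f : GG →* GG => f ((MulAut.conj zt)⁻¹ x)) hψ2
    simp only [MonoidHom.comp_apply] at this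
    rw [this]
    exact (MulAut.conj zt).apply_symm_apply x
  have hinj : Function.Injective ψ := Finite.injective_iff_surjective.2 hsurj
  let τ : MulAut GG := MulEquiv.ofBijective ψ ⟨hinj, hsurj⟩
  refine ⟨τ, fun l hl => hψ l hl, ?_⟩
  apply MulEquiv.ext
  intro x
  exact congrArg (fun f : GG →* GG => f x) hψ2

include M hl hlabH hlb in
theorem tau_not_inner (τ : MulAut GG) (hτ : ∀ l, l < 7 → τ (e l) = prodA e (sub false false true 2 l))
    (hk : Nat.card ρ.ker = 2) : τ ∉ Cfsg.Inn GG := by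
  rintro ⟨c, hc⟩
  have hv : ∀ x, τ x = c * x * c⁻¹ := by
    intro x
    rw [← hc]
    rfl
  have hword : ∀ w : List Nat, (∀ z ∈ w, z < 7) → τ (prodA e w) = prodA e (expd (sub false false true 2) w) := by
    intro w hw
    have := map_prodA τ.toMonoidHom e (fun l => prodA e (sub false false true 2 l)) 7 hτ w hw
    rw [prodA_expd] at this
    exact this
  have hz : τ zt = zt := by
    rw [hword [0,0] (by decide)]
    rfl
  have hy : τ (prodA e [2]) = prodA e [2] := by
    rw [hword [2] (by decide)]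
    rfl
  have hy' : τ (prodA e [0,2,1]) = prodA e [0,2,1] := by
    rw [hword [0,2,1] (by decide)]
    rfl
  have hcomm : ∀ x, τ x = x → c * x = x * c := by
    intro x hx
    rw [hv] at hx
    calc c * x = (c * x * c⁻¹) * c := by group
      _ = x * c := by rw [hx]
  have hcK : c ∈ KK := mem_cent φ M hlabH hlb c (hcomm _ hz)
  have hρ1 := cent_yy ρ hl c hcK (hcomm _ hy) (hcomm _ hy')
  have h4 : τ (e 4) = e 4 * zt := by
    rw [hτ 4 (by norm_num)]
    simp [sub, prodA_cons, zt_eq, mul_assoc]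
  have hc4 : c * e 4 = e 4 * c := by
    rcases ker_two ρ hk hl (zt_ne φ M) ⟨c, hcK⟩ hρ1 with h | h
    · have h5 : c = 1 := h
      rw [h5]
      group
    · have h5 : c = zt := h
      rw [h5]
      exact (zt_comm_letter 4 (by norm_num)).symm
  rw [hv, hc4, mul_assoc, mul_inv_cancel, mul_one] at h4
  apply zt_ne φ M
  exact (mul_eq_left.1 h4.symm)

include M hr hk hl hlabH hlb hsize' in
/-- The order of the group of outer automorphisms. -/
theorem card_out : Nat.card (Cfsg.Out GG) = 2 := by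
  obtain ⟨τ, hτ, hτ2⟩ := exists_tau
  have hninn := tau_not_inner φ M ρ hl hlabH hlb τ hτ hk
  apply Cfsg.Agent.Lib.Golay.OutAbs.card_out_two τ hninn
  intro α
  obtain ⟨i, hi, h1, h2⟩ := reduce φ M ρ hr hk hl hlabH hlb hsize' α
  obtain ⟨c, k, hck', hA⟩ := letters φ M ρ hk hl (i * α) h1 h2
  have hzi : MulAut.conj zt ∈ Cfsg.Inn GG := ⟨zt, rfl⟩
  have hα : α = i⁻¹ * (i * α) := by group
  have hright : ∀ j ∈ Cfsg.Inn GG, i * α = j * τ → τ * α ∈ Cfsg.Inn GG := by
    intro j hj hA'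
    have h3 : τ * α = (τ * (i⁻¹ * j) * τ⁻¹) * (τ * τ) := by
      rw [hα, hA']
      group
    rw [h3, hτ2]
    exact (Cfsg.Inn GG).mul_mem ((Cfsg.innNormal GG).conj_mem _ ((Cfsg.Inn GG).mul_mem ((Cfsg.Inn GG).inv_mem hi) hj) τ) hzi
  have hleft : ∀ j ∈ Cfsg.Inn GG, i * α = j → α ∈ Cfsg.Inn GG := by
    intro j hj hA'
    rw [hα, hA']
    exact (Cfsg.Inn GG).mul_mem ((Cfsg.Inn GG).inv_mem hi) hj
  rcases hck' with ⟨rfl, rfl | rfl⟩ | ⟨rfl, rfl | rfl⟩
  · left
    refine hleft 1 (Cfsg.Inn GG).one_mem (aut_ext _ _ fun l hl => ?_)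
    rw [hA l hl, eqW (hc1 l hl)]
    simp
  · left
    refine hleft (MulAut.conj zt) hzi (aut_ext _ _ fun l hl => ?_)
    rw [hA l hl, eqW (hc4 l hl)]
    have h4 := conj_word [l]
    have h5 : ([1,1] ++ [l] ++ [0,0] : List Nat) = [1,1,l,0,0] := rfl
    rw [h5] at h4
    rw [h4, MulAut.conj_apply]
    simp
  · right
    refine hright 1 (Cfsg.Inn GG).one_mem (aut_ext _ _ fun l hl => ?_)
    rw [hA l hl, one_mul, hτ l hl]
  · right
    refine hright (MulAut.conj zt) hzi (aut_ext _ _ fun l hl => ?_)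
    rw [hA l hl, eqW (hc3 l hl), conj_word]
    show _ = MulAut.conj zt (τ (e l))
    rw [hτ l hl, MulAut.conj_apply]

end Final

end Cfsg.Agent.Lib.TC.D.HNOut.Main
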